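import Mathlib

/-!
# Torsion and flatness lemmas for lifting along nilpotent ideals
-/

set_option autoImplicit false
set_option linter.style.haveILetI false

universe u v w

open TensorProduct

namespace Groth.Agent.H1Lift

variable {R : Type u} [CommRing R] {S : Type u} [CommRing S] [Algebra R S]

/-- `S` is `R` modulo `Q`. -/
def SurjMod (Q : Ideal R) (S : Type u) [CommRing S] [Algebra R S] : Prop :=
  ∀ s : S, ∃ r : R, s - algebraMap R S r ∈ Q.map (algebraMap R S)

/-- `R` injects into `S` modulo `Q`. -/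
def InjMod (Q : Ideal R) (S : Type u) [CommRing S] [Algebra R S] : Prop :=
  ∀ r : R, algebraMap R S r ∈ Q.map (algebraMap R S) → r ∈ Q

theorem tmul_eq_zero_of_mem_map {X : Type w} [AddCommGroup X] [Module R X] {Q : Ideal R}
    (hX : ∀ q ∈ Q, ∀ x : X, q • x = 0) {z : S} (hz : z ∈ Q.map (algebraMap R S)) (x : X) :
    z ⊗ₜ[R] x = 0 := by
  induction hz using Submodule.span_induction with
  | mem z hz =>
    obtain ⟨q, hq, rfl⟩ := hz
    rw [Algebra.algebraMap_eq_smul_one, smul_tmul, hX q hq, tmul_zero]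
  | zero => rw [zero_tmul]
  | add a b _ _ ha hb => rw [add_tmul, ha, hb, add_zero]
  | smul c a _ ha =>
    have : (c * a) ⊗ₜ[R] x = c • (a ⊗ₜ[R] x) := by rw [smul_tmul', smul_eq_mul]
    rw [smul_eq_mul, this, ha, smul_zero]

theorem one_tmul_surjective {X : Type w} [AddCommGroup X] [Module R X] {Q : Ideal R}
    (hs : SurjMod Q S) (hX : ∀ q ∈ Q, ∀ x : X, q • x = 0) :
    Function.Surjective fun x : X => (1 : S) ⊗ₜ[R] x := fun t => by
  induction t using TensorProduct.induction_on with
  | zero => exact ⟨0, tmul_zero _ _⟩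
  | tmul s x =>
    obtain ⟨r, hr⟩ := hs s
    refine ⟨r • x, ?_⟩
    have h0 := tmul_eq_zero_of_mem_map hX hr x
    rw [sub_tmul, sub_eq_zero, Algebra.algebraMap_eq_smul_one, smul_tmul] at h0
    exact h0.symm
  | add a b ha hb =>
    obtain ⟨x, rfl⟩ := ha
    obtain ⟨y, rfl⟩ := hb
    exact ⟨x + y, tmul_add _ _ _⟩

theorem one_tmul_injective {X : Type w} [AddCommGroup X] [Module R X] {Q : Ideal R}
    (hs : SurjMod Q S) (hi : InjMod Q S) (hX : ∀ q ∈ Q, ∀ x : X, q • x = 0) :
    Function.Injective fun x : X => (1 : S) ⊗ₜ[R] x := by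
  let f : (R ⧸ Q) →ₐ[R] S ⧸ Q.map (algebraMap R S) :=
    Ideal.Quotient.liftₐ Q (Algebra.ofId R _) fun r hr => by
      show algebraMap R (S ⧸ Q.map (algebraMap R S)) r = 0
      rw [IsScalarTower.algebraMap_apply R S, Ideal.Quotient.algebraMap_eq,
        Ideal.Quotient.eq_zero_iff_mem]
      exact Ideal.mem_map_of_mem _ hr
  have hf : Function.Bijective f := by
    refine ⟨(injective_iff_map_eq_zero f).2 fun z hz => ?_, fun z => ?_⟩
    · obtain ⟨r, rfl⟩ := Ideal.Quotient.mk_surjective z
      refine Ideal.Quotient.eq_zero_iff_mem.2 (hi r (Ideal.Quotient.eq_zero_iff_mem.1 ?_))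
      exact hz
    · obtain ⟨s, rfl⟩ := Ideal.Quotient.mk_surjective z
      obtain ⟨r, hr⟩ := hs s
      exact ⟨Ideal.Quotient.mk Q r, (Ideal.Quotient.eq.2 hr).symm⟩
  let ρ : S →ₗ[R] R ⧸ Q :=
    (AlgEquiv.ofBijective f hf).symm.toLinearMap ∘ₗ (Ideal.Quotient.mkₐ R _).toLinearMap
  letI : Module (R ⧸ Q) X := Module.IsTorsionBySet.module (M := X) (I := Q) fun x a => hX a.1 a.2 x
  haveI : IsScalarTower R (R ⧸ Q) X := Module.IsTorsionBySet.isScalarTower _
  let B : S ⊗[R] X →ₗ[R] X := TensorProduct.lift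
    (LinearMap.mk₂ R (fun s x => ρ s • x) (fun a b x => by rw [map_add, add_smul])
      (fun c a x => by rw [map_smul, smul_assoc]) (fun a x y => smul_add _ _ _)
      (fun c a x => smul_comm _ _ _))
  have hρ : ρ 1 = 1 := by simp [ρ]
  intro x y hxy
  have := congrArg B hxy
  simpa [B, hρ] using this

theorem eq_top_of_le_sup_smul {M : Type w} [AddCommGroup M] [Module R M] {Q : Ideal R}
    (hQ : IsNilpotent Q) (N : Submodule R M) (h : ⊤ ≤ N ⊔ Q • ⊤) : N = ⊤ := by
  obtain ⟨n, hn⟩ := hQ
  have key : ∀ k : ℕ, ⊤ ≤ N ⊔ Q ^ k • (⊤ : Submodule R M) := by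
    intro k
    induction k with
    | zero => simp
    | succ k ih =>
      refine ih.trans (sup_le le_sup_left ?_)
      calc Q ^ k • (⊤ : Submodule R M) ≤ Q ^ k • (N ⊔ Q • ⊤) := Submodule.smul_mono le_rfl h
        _ = Q ^ k • N ⊔ Q ^ k • (Q • ⊤) := Submodule.smul_sup ..
        _ ≤ N ⊔ Q ^ (k + 1) • ⊤ := sup_le_sup (Submodule.smul_le_right)
            (by rw [pow_succ, Submodule.mul_smul])
  have := key n
  rw [hn, Ideal.zero_eq_bot, Submodule.bot_smul, sup_bot_eq] at this
  exact top_le_iff.1 this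

/-- A flat map which is bijective modulo a nilpotent ideal is bijective. -/
theorem bijective_of_flat [Module.Flat R S] {Q : Ideal R} (hQ : IsNilpotent Q)
    (hs : SurjMod Q S) (hi : InjMod Q S) : Function.Bijective (algebraMap R S) := by
  constructor
  · let K : Submodule R R := LinearMap.ker (Algebra.linearMap R S)
    have hK : (Q • ⊤ : Submodule R K) = ⊤ := by
      refine top_le_iff.1 fun k _ => ?_
      have h0 : (1 : S) ⊗ₜ[R] k = 0 := by
        refine Module.Flat.lTensor_preserves_injective_linearMap (M := S) K.subtype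
          Subtype.val_injective ?_
        rw [map_zero, LinearMap.lTensor_tmul, K.subtype_apply]
        apply (TensorProduct.rid R S).injective
        rw [map_zero, TensorProduct.rid_tmul, ← Algebra.algebraMap_eq_smul_one]
        exact k.2
      have h1 := congrArg (LinearMap.lTensor S (Submodule.mkQ (Q • ⊤ : Submodule R K))) h0
      rw [LinearMap.lTensor_tmul, map_zero] at h1
      have h2 := one_tmul_injective hs hi (X := K ⧸ (Q • ⊤ : Submodule R K)) (fun q hq x => by
        obtain ⟨y, rfl⟩ := Submodule.mkQ_surjective _ x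
        rw [← map_smul]
        exact (Submodule.Quotient.mk_eq_zero _).2 (Submodule.smul_mem_smul hq trivial))
      exact (Submodule.Quotient.mk_eq_zero _).1 (h2 (h1.trans (tmul_zero _ _).symm))
    have h3 := eq_top_of_le_sup_smul hQ (⊥ : Submodule R K) (by rw [bot_sup_eq, hK])
    haveI : Subsingleton K := by
      rw [← Submodule.subsingleton_iff R]
      exact subsingleton_of_bot_eq_top h3
    rw [injective_iff_map_eq_zero]
    intro r hr
    exact congrArg Subtype.val (Subsingleton.elim (⟨r, hr⟩ : K) 0)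
  · intro s
    have := eq_top_of_le_sup_smul hQ (LinearMap.range (Algebra.linearMap R S)) (fun x _ => by
      obtain ⟨r, hr⟩ := hs x
      rw [Ideal.smul_top_eq_map]
      exact Submodule.mem_sup.2 ⟨_, ⟨r, rfl⟩, _, hr, add_sub_cancel _ x⟩)
    have hs' : s ∈ LinearMap.range (Algebra.linearMap R S) := this ▸ Submodule.mem_top
    exact hs'

theorem surjMod_pow {Q : Ideal R} (hs : SurjMod Q S) (n : ℕ) : SurjMod (Q ^ n) S := by
  induction n with
  | zero => exact fun s => ⟨0, by rw [pow_zero, Ideal.one_eq_top, Ideal.map_top]; trivial⟩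
  | succ n ih =>
    intro s
    obtain ⟨r, hr⟩ := ih s
    suffices ∀ z ∈ (Q ^ n).map (algebraMap R S), ∃ r' : R,
        z - algebraMap R S r' ∈ (Q ^ (n + 1)).map (algebraMap R S) by
      obtain ⟨r', hr'⟩ := this _ hr
      exact ⟨r + r', by rwa [map_add, ← sub_sub]⟩
    intro z hz
    suffices h : ∀ c : S, ∃ r' : R,
        c * z - algebraMap R S r' ∈ (Q ^ (n + 1)).map (algebraMap R S) by
      simpa using h 1
    induction hz using Submodule.span_induction with
    | mem z hz =>
      obtain ⟨q, hq, rfl⟩ := hz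
      intro c
      obtain ⟨b, hb⟩ := hs c
      refine ⟨b * q, ?_⟩
      rw [map_mul, ← sub_mul, mul_comm, pow_succ, Ideal.map_mul]
      exact Ideal.mul_mem_mul (Ideal.mem_map_of_mem _ hq) hb
    | zero => exact fun c => ⟨0, by simp⟩
    | add a b _ _ ha hb =>
      intro c
      obtain ⟨x, hx⟩ := ha c
      obtain ⟨y, hy⟩ := hb c
      refine ⟨x + y, ?_⟩
      have := add_mem hx hy
      convert this using 1
      simp only [map_add, mul_add]
      ring
    | smul d a _ ha =>
      intro c
      obtain ⟨x, hx⟩ := ha (c * d)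
      exact ⟨x, by rwa [smul_eq_mul, ← mul_assoc]⟩

theorem surjMod_mono {Q Q' : Ideal R} (hQ : Q ≤ Q') (hs : SurjMod Q S) : SurjMod Q' S := fun s => by
  obtain ⟨r, hr⟩ := hs s
  exact ⟨r, Ideal.map_mono hQ hr⟩

/-- If `S` is `R` modulo `P`, then also modulo any ideal between `P` and its powers. -/
theorem injMod_of_le {P Q : Ideal R} (hPQ : P ≤ Q) (hs : SurjMod P S) (hi : InjMod P S) :
    InjMod Q S := by
  intro r hr
  have key : ∀ z ∈ Q.map (algebraMap R S), ∀ c : S,
      ∃ q ∈ Q, c * z - algebraMap R S q ∈ P.map (algebraMap R S) := by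
    intro z hz
    induction hz using Submodule.span_induction with
    | mem z hz =>
      obtain ⟨q, hq, rfl⟩ := hz
      intro c
      obtain ⟨b, hb⟩ := hs c
      refine ⟨b * q, Ideal.mul_mem_left _ _ hq, ?_⟩
      rw [map_mul, ← sub_mul]
      exact Ideal.mul_mem_right _ _ hb
    | zero => exact fun c => ⟨0, zero_mem _, by simp⟩
    | add a b _ _ ha hb =>
      intro c
      obtain ⟨x, hx', hx⟩ := ha c
      obtain ⟨y, hy', hy⟩ := hb c
      refine ⟨x + y, add_mem hx' hy', ?_⟩
      have := add_mem hx hy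
      convert this using 1
      simp only [map_add, mul_add]
      ring
    | smul d a _ ha =>
      intro c
      obtain ⟨x, hx', hx⟩ := ha (c * d)
      exact ⟨x, hx', by rwa [smul_eq_mul, ← mul_assoc]⟩
  obtain ⟨q, hq, hrq⟩ := key _ hr 1
  rw [one_mul, ← map_sub] at hrq
  have := hPQ (hi _ hrq)
  simpa using add_mem this hq

theorem tmul_mem_of_flat [Module.Flat R S] {J' J'' : Ideal R} (r : R) (hr'' : r ∈ J'')
    (hr : algebraMap R S r ∈ J'.map (algebraMap R S)) :
    (1 : S) ⊗ₜ[R] (⟨Submodule.Quotient.mk r, r, hr'', rfl⟩ : Submodule.map (Submodule.mkQ J') J'') = 0 := by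
  refine Module.Flat.lTensor_preserves_injective_linearMap (M := S)
    (Submodule.map (Submodule.mkQ J') J'').subtype Subtype.val_injective ?_
  rw [map_zero, LinearMap.lTensor_tmul]
  show (1 : S) ⊗ₜ[R] (Submodule.Quotient.mk r : R ⧸ J') = 0
  have e : (Submodule.Quotient.mk r : R ⧸ J') = r • Submodule.Quotient.mk (1 : R) := by
    rw [← Submodule.Quotient.mk_smul, smul_eq_mul, mul_one]
  rw [e, ← smul_tmul, ← Algebra.algebraMap_eq_smul_one]
  exact tmul_eq_zero_of_mem_map (fun q hq x => by
    obtain ⟨y, rfl⟩ := Submodule.Quotient.mk_surjective _ x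
    rw [← Submodule.Quotient.mk_smul, Submodule.Quotient.mk_eq_zero, smul_eq_mul]
    exact Ideal.mul_mem_right _ _ hq) hr _

theorem injMod_pow [Module.Flat R S] {P : Ideal R} (hs : SurjMod P S) (hi : InjMod P S) (n : ℕ) :
    InjMod (P ^ n) S := by
  induction n with
  | zero => exact fun r _ => by rw [pow_zero, Ideal.one_eq_top]; trivial
  | succ n ih =>
    intro r hr
    have hr' : r ∈ P ^ n := ih r (Ideal.map_mono (Ideal.pow_le_pow_right n.le_succ) hr)
    have h0 := tmul_mem_of_flat (J' := P ^ (n + 1)) r hr' hr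
    have h1 := one_tmul_injective hs hi
      (X := Submodule.map (Submodule.mkQ (P ^ (n + 1))) (P ^ n)) (fun q hq x => by
        obtain ⟨⟨_, y, hy, rfl⟩, rfl⟩ : ∃ x', x' = x := ⟨x, rfl⟩
        refine Subtype.ext ?_
        show q • Submodule.mkQ (P ^ (n + 1)) y = 0
        rw [← map_smul, Submodule.mkQ_apply, Submodule.Quotient.mk_eq_zero, smul_eq_mul, pow_succ']
        exact Ideal.mul_mem_mul hq hy) (h0.trans (tmul_zero _ _).symm)
    exact (Submodule.Quotient.mk_eq_zero _).1 (congrArg Subtype.val h1)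

theorem injMod_of_pow_le [Module.Flat R S] {P Q : Ideal R} (n : ℕ) (h : P ^ n ≤ Q)
    (hs : SurjMod P S) (hi : InjMod P S) : InjMod Q S :=
  injMod_of_le h (surjMod_pow hs n) (injMod_pow hs hi n)

theorem eq_zero_of_torsion [Module.Flat R S] {P : Ideal R} (n : ℕ) (hs : SurjMod P S)
    (hi : InjMod P S) {r : R} (hr : ∀ q ∈ P ^ n, q * r = 0) (h0 : algebraMap R S r = 0) : r = 0 := by
  let X : Submodule R R := R ∙ r
  have hX : ∀ q ∈ P ^ n, ∀ x : X, q • x = 0 := fun q hq x => by
    obtain ⟨c, hc⟩ := Submodule.mem_span_singleton.1 x.2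
    refine Subtype.ext ?_
    show q * (x : R) = 0
    rw [← hc, smul_eq_mul, mul_left_comm, hr q hq, mul_zero]
  have h1 : (1 : S) ⊗ₜ[R] (⟨r, Submodule.mem_span_singleton_self r⟩ : X) = 0 := by
    refine Module.Flat.lTensor_preserves_injective_linearMap (M := S) X.subtype Subtype.val_injective ?_
    rw [map_zero, LinearMap.lTensor_tmul, Submodule.subtype_apply]
    apply (TensorProduct.rid R S).injective
    rw [map_zero, TensorProduct.rid_tmul, ← Algebra.algebraMap_eq_smul_one, h0]
  exact congrArg Subtype.val (one_tmul_injective (surjMod_pow hs n) (injMod_pow hs hi n) hX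
    (h1.trans (tmul_zero _ _).symm))

end Groth.Agent.H1Lift
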