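import Groth.Agent.H1Lift.Basic

/-!
# Comparison of the degree one Koszul cohomology along a flat map
-/

set_option autoImplicit false
set_option linter.style.haveILetI false

universe u v w

open TensorProduct

namespace Groth.Agent.H1Lift

variable {R : Type u} [CommRing R] {S : Type u} [CommRing S] [Algebra R S]
variable {r : ℕ} (a : Fin r → R) (M : Type w) [AddCommGroup M] [Module R M]

/-- The Koszul differential in degree zero. -/
def d0 : M →ₗ[R] (Fin r → M) := LinearMap.pi fun i => a i • LinearMap.id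

/-- The Koszul differential in degree one. -/
def d1 : (Fin r → M) →ₗ[R] (Fin r → Fin r → M) :=
  LinearMap.pi fun i => LinearMap.pi fun j => a i • LinearMap.proj j - a j • LinearMap.proj i

/-- The Koszul differential in degree two. -/
def d2 : (Fin r → Fin r → M) →ₗ[R] (Fin r → Fin r → Fin r → M) :=
  LinearMap.pi fun i => LinearMap.pi fun j => LinearMap.pi fun k =>
    let q : Fin r → Fin r → ((Fin r → Fin r → M) →ₗ[R] M) := fun x y =>
      LinearMap.proj (φ := fun _ : Fin r => M) y ∘ₗ LinearMap.proj (φ := fun _ : Fin r => Fin r → M) x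
    a i • q j k - a j • q i k + a k • q i j

theorem d0_apply (m : M) (i : Fin r) : d0 a M m i = a i • m := rfl

theorem d1_apply (u : Fin r → M) (i j : Fin r) : d1 a M u i j = a i • u j - a j • u i := rfl

theorem d2_apply (v : Fin r → Fin r → M) (i j k : Fin r) :
    d2 a M v i j k = a i • v j k - a j • v i k + a k • v i j := rfl

variable {M}

theorem d1_torsion (v : Fin r → Fin r → M) (hv : d2 a M v = 0) (i : Fin r) :
    d1 a M (v i) = a i • v := by
  funext j k
  rw [d1_apply]
  show a j • v i k - a k • v i j = a i • v j k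
  have := congrFun (congrFun (congrFun hv i) j) k
  rw [d2_apply] at this
  have h' : a i • v j k - a j • v i k + a k • v i j = 0 := this
  rw [← sub_eq_zero, ← neg_eq_zero]
  rw [← h']
  abel

theorem d0_torsion (u : Fin r → M) (hu : d1 a M u = 0) (i : Fin r) : d0 a M (u i) = a i • u := by
  funext j
  rw [d0_apply]
  show a j • u i = a i • u j
  have := congrFun (congrFun hu i) j
  rw [d1_apply] at this
  exact (sub_eq_zero.1 (show a i • u j - a j • u i = 0 from this)).symm

theorem smul_quot_eq_zero {P : Type w} [AddCommGroup P] [Module R P] (N : Submodule R P)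
    (h : ∀ i (p : P), a i • p ∈ N) {q : R} (hq : q ∈ Ideal.span (Set.range a)) (x : P ⧸ N) :
    q • x = 0 := by
  obtain ⟨p, rfl⟩ := Submodule.Quotient.mk_surjective _ x
  rw [← Submodule.Quotient.mk_smul, Submodule.Quotient.mk_eq_zero]
  obtain ⟨c, rfl⟩ := (Submodule.mem_span_range_iff_exists_fun R).1 hq
  rw [Finset.sum_smul]
  refine sum_mem fun i _ => ?_
  rw [smul_assoc]
  exact N.smul_mem _ (h i p)

/-- The key exactness statement. -/
theorem exists_koszul_split [Module.Flat R S] (hs : SurjMod (Ideal.span (Set.range a)) S)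
    (hi : InjMod (Ideal.span (Set.range a)) S) (n : Fin r → S ⊗[R] M) (v : Fin r → Fin r → M)
    (hv : d2 a M v = 0) (hn : ∀ i j, a i • n j - a j • n i = (1 : S) ⊗ₜ[R] v i j) :
    ∃ (u : Fin r → M) (c : S ⊗[R] M),
      (∀ i j, v i j = a i • u j - a j • u i) ∧ ∀ i, n i = (1 : S) ⊗ₜ[R] u i + a i • c := by
  classical
  -- step 1: `v` is a coboundary
  obtain ⟨n', hn'⟩ : ∃ n' : S ⊗[R] (Fin r → M), ∀ i, (LinearMap.proj i).lTensor S n' = n i := by
    refine ⟨(TensorProduct.piRight R R S fun _ : Fin r => M).symm n, fun i => ?_⟩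
    have : ∀ z : S ⊗[R] (Fin r → M),
        (LinearMap.proj i).lTensor S z = TensorProduct.piRight R R S (fun _ : Fin r => M) z i := fun z => by
      induction z using TensorProduct.induction_on with
      | zero => simp
      | tmul s f => simp
      | add x y hx hy => simp [map_add, hx, hy]
    rw [this, LinearEquiv.apply_symm_apply]
  have hext : ∀ (ι : Type) [Fintype ι] [DecidableEq ι] (P : Type w) [AddCommGroup P] [Module R P]
      (z z' : S ⊗[R] (ι → P)), (∀ i, (LinearMap.proj i).lTensor S z = (LinearMap.proj i).lTensor S z') →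
      z = z' := fun ι _ _ P _ _ z z' h => by
    have : ∀ (w : S ⊗[R] (ι → P)) i,
        (LinearMap.proj i).lTensor S w = TensorProduct.piRight R R S (fun _ : ι => P) w i := fun w i => by
      induction w using TensorProduct.induction_on with
      | zero => simp
      | tmul s f => simp
      | add x y hx hy => simp [map_add, hx, hy]
    exact (TensorProduct.piRight R R S fun _ : ι => P).injective (funext fun i => by rw [← this, ← this, h i])
  have hd1 : (d1 a M).lTensor S n' = (1 : S) ⊗ₜ[R] v := by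
    refine hext _ _ _ _ fun i => hext _ _ _ _ fun j => ?_
    rw [LinearMap.lTensor_tmul, LinearMap.lTensor_tmul]
    show _ = (1 : S) ⊗ₜ[R] v i j
    rw [← hn, ← hn', ← hn', ← LinearMap.lTensor_comp_apply, ← LinearMap.lTensor_comp_apply,
      show (LinearMap.proj j ∘ₗ LinearMap.proj i) ∘ₗ d1 a M =
        a i • LinearMap.proj j - a j • LinearMap.proj i from rfl,
      LinearMap.lTensor_sub, LinearMap.lTensor_smul, LinearMap.lTensor_smul]
    rfl
  let Z2 := LinearMap.ker (d2 a M)
  let N2 : Submodule R Z2 := (LinearMap.range (d1 a M)).comap Z2.subtype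
  have hX2 : ∀ i (p : Z2), a i • p ∈ N2 := fun i p => ⟨(p : Fin r → Fin r → M) i, d1_torsion a (p : Fin r → Fin r → M) (LinearMap.mem_ker.1 p.2) i⟩
  let d1' : (Fin r → M) →ₗ[R] Z2 := (d1 a M).codRestrict Z2 fun u => by
    show d2 a M (d1 a M u) = 0
    funext i j k
    rw [d2_apply, d1_apply, d1_apply, d1_apply]
    show _ = (0 : M)
    simp only [smul_sub, smul_comm (a i), smul_comm (a j) (a k)]
    abel
  have h1 : d1'.lTensor S n' = (1 : S) ⊗ₜ[R] (⟨v, hv⟩ : Z2) := by
    refine Module.Flat.lTensor_preserves_injective_linearMap (M := S) Z2.subtype Subtype.val_injective ?_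
    rw [← LinearMap.lTensor_comp_apply, LinearMap.lTensor_tmul]
    exact hd1
  have h2 : (1 : S) ⊗ₜ[R] (Submodule.Quotient.mk (⟨v, hv⟩ : Z2) : Z2 ⧸ N2) = 0 := by
    have := congrArg (N2.mkQ.lTensor S) h1
    rw [LinearMap.lTensor_tmul, ← LinearMap.lTensor_comp_apply] at this
    rw [← Submodule.mkQ_apply, ← this]
    have h0 : N2.mkQ ∘ₗ d1' = 0 := LinearMap.ext fun u =>
      (Submodule.Quotient.mk_eq_zero _).2 ⟨u, rfl⟩
    rw [h0, LinearMap.lTensor_zero, LinearMap.zero_apply]
  obtain ⟨u₀, hu₀⟩ : (⟨v, hv⟩ : Z2) ∈ N2 := (Submodule.Quotient.mk_eq_zero _).1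
    (one_tmul_injective hs hi (fun q hq x => smul_quot_eq_zero a N2 hX2 hq x)
      (h2.trans (tmul_zero _ _).symm))
  have hu₀' : d1 a M u₀ = v := hu₀
  -- step 2: the remaining cocycle
  let w := n' - (1 : S) ⊗ₜ[R] u₀
  have hw : (d1 a M).lTensor S w = 0 := by
    simp [w, map_sub, hd1, hu₀']
  let Z1 := LinearMap.ker (d1 a M)
  obtain ⟨w', hw'⟩ : ∃ w', Z1.subtype.lTensor S w' = w :=
    ((Module.Flat.lTensor_exact S (LinearMap.exact_subtype_ker_map (d1 a M))) w).1 hw
  let d0' : M →ₗ[R] Z1 := (d0 a M).codRestrict Z1 fun m => by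
    show d1 a M (d0 a M m) = 0
    funext i j
    rw [d1_apply, d0_apply, d0_apply, smul_comm, sub_self]
    rfl
  let N1 : Submodule R Z1 := LinearMap.range d0'
  have hX1 : ∀ i (p : Z1), a i • p ∈ N1 := fun i p =>
    ⟨(p : Fin r → M) i, Subtype.ext (d0_torsion a (p : Fin r → M) (LinearMap.mem_ker.1 p.2) i)⟩
  obtain ⟨x, hx⟩ := one_tmul_surjective (S := S) hs
    (fun q hq x => smul_quot_eq_zero a N1 hX1 hq x) (N1.mkQ.lTensor S w')
  obtain ⟨u₁, rfl⟩ := N1.mkQ_surjective x
  have hsub : N1.mkQ.lTensor S (w' - (1 : S) ⊗ₜ[R] u₁) = 0 := by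
    rw [map_sub, LinearMap.lTensor_tmul]
    exact sub_eq_zero.2 hx.symm
  obtain ⟨c, hc⟩ := (lTensor_exact S (g := N1.mkQ)
    (show Function.Exact d0' N1.mkQ from LinearMap.exact_iff.2 (Submodule.ker_mkQ _))
    N1.mkQ_surjective _).1 hsub
  refine ⟨u₀ + u₁.1, c, fun i j => ?_, fun i => ?_⟩
  · have h0 : d1 a M u₁.1 = 0 := u₁.2
    rw [← d1_apply, map_add, h0, hu₀', add_zero]
  · rw [← hn' i, show n' = (1 : S) ⊗ₜ[R] u₀ + Z1.subtype.lTensor S ((1 : S) ⊗ₜ[R] u₁ + d0'.lTensor S c) by
        rw [hc, add_sub_cancel, hw']; simp [w]]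
    rw [map_add, map_add, map_add, LinearMap.lTensor_tmul, LinearMap.lTensor_tmul,
      LinearMap.lTensor_tmul, ← LinearMap.lTensor_comp_apply S (LinearMap.proj i) Z1.subtype,
      ← LinearMap.lTensor_comp_apply,
      show (LinearMap.proj i ∘ₗ Z1.subtype) ∘ₗ d0' = a i • LinearMap.id from rfl,
      LinearMap.lTensor_smul, LinearMap.lTensor_id, ← add_assoc, ← tmul_add]
    rfl

end Groth.Agent.H1Lift
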