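import Groth.Agent.H1Lift.Basic
import Groth.Agent.Hensel.LiftEtaleAlg
import Groth.Agent.CAlgOdd.NilProj

/-!
# Étale lifts of localizations along a square zero ideal
-/

set_option autoImplicit false
set_option linter.style.haveILetI false

universe u

open TensorProduct

namespace Groth.Agent.H1Lift

variable {A : Type u} [CommRing A]

/-- Localization away from an element of the base. -/
abbrev Loc (R : Type u) [CommRing R] [Algebra A R] (s : A) : Type u :=
  Localization.Away (algebraMap A R s)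

section Loc

variable {R R' : Type u} [CommRing R] [Algebra A R] [CommRing R'] [Algebra A R']

theorem algebraMap_loc (s a : A) :
    algebraMap R (Loc R s) (algebraMap A R a) = algebraMap A (Loc R s) a :=
  (IsScalarTower.algebraMap_apply A R (Loc R s) a).symm

theorem loc_algebraMap_smul (s c : A) (x : R) :
    algebraMap R (Loc R s) (c • x) = c • algebraMap R (Loc R s) x :=
  map_smul (IsScalarTower.toAlgHom A R (Loc R s)) c x

theorem isUnit_loc_of_dvd {s t : A} (h : s ∣ t) : IsUnit (algebraMap A (Loc R t) s) :=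
  isUnit_of_dvd_unit (map_dvd _ h) (algebraMap_loc (R := R) t t ▸
    IsLocalization.Away.algebraMap_isUnit (S := Loc R t) (algebraMap A R t))

/-- Functoriality of `Loc`. -/
noncomputable def locMap (f : R →ₐ[A] R') {s t : A} (h : s ∣ t) : Loc R s →ₐ[A] Loc R' t :=
  IsLocalization.liftAlgHom (M := Submonoid.powers (algebraMap A R s))
    (f := (IsScalarTower.toAlgHom A R' (Loc R' t)).comp f) fun y => by
      obtain ⟨_, n, rfl⟩ := y
      rw [map_pow, AlgHom.comp_apply, f.commutes, AlgHom.commutes]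
      exact (isUnit_loc_of_dvd h).pow n

theorem locMap_algebraMap (f : R →ₐ[A] R') {s t : A} (h : s ∣ t) (x : R) :
    locMap f h (algebraMap R (Loc R s) x) = algebraMap R' (Loc R' t) (f x) :=
  IsLocalization.lift_eq _ x

theorem loc_algHom_ext {T : Type u} [CommRing T] [Algebra A T] {s : A} {f g : Loc R s →ₐ[A] T}
    (h : ∀ x, f (algebraMap R _ x) = g (algebraMap R _ x)) : f = g :=
  IsLocalization.algHom_ext (Submonoid.powers (algebraMap A R s)) (AlgHom.ext h)

theorem locMap_comp {R'' : Type u} [CommRing R''] [Algebra A R''] (f : R →ₐ[A] R') (g : R' →ₐ[A] R'')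
    {s t w : A} (h : s ∣ t) (h' : t ∣ w) :
    (locMap g h').comp (locMap f h) = locMap (g.comp f) (h.trans h') :=
  loc_algHom_ext fun x => by simp [locMap_algebraMap]

theorem exists_loc_eq (s : A) (z : Loc R s) :
    ∃ (k : ℕ) (b : R), s ^ k • z = algebraMap R (Loc R s) b := by
  obtain ⟨k, b, h⟩ := IsLocalization.Away.surj (algebraMap A R s) z
  refine ⟨k, b, ?_⟩
  rw [← h, Algebra.smul_def, IsScalarTower.algebraMap_apply A R (Loc R s), map_pow, map_pow, mul_comm]

theorem exists_pow_smul_eq_zero (s : A) {x : R} (h : algebraMap R (Loc R s) x = 0) :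
    ∃ k : ℕ, s ^ k • x = 0 := by
  obtain ⟨⟨_, k, rfl⟩, hk⟩ :=
    (IsLocalization.map_eq_zero_iff (Submonoid.powers (algebraMap A R s)) (Loc R s) x).1 h
  exact ⟨k, by rw [Algebra.smul_def, map_pow]; exact hk⟩

theorem loc_smul_cancel {s t : A} (h : s ∣ t) {k : ℕ} {x y : Loc R t} (hxy : s ^ k • x = s ^ k • y) :
    x = y := by
  rw [Algebra.smul_def, Algebra.smul_def, map_pow] at hxy
  exact ((isUnit_loc_of_dvd h).pow k).mul_left_cancel hxy

end Loc

theorem isNilpotent_map {J : Ideal A} (hJ : IsNilpotent J) {L : Type u} [CommRing L] [Algebra A L] :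
    IsNilpotent (J.map (algebraMap A L)) := by
  obtain ⟨n, hn⟩ := hJ
  exact ⟨n, by rw [← Ideal.map_pow, hn, Ideal.zero_eq_bot, Ideal.map_bot]; rfl⟩

theorem isUnit_of_surjective {L T : Type u} [CommRing L] [CommRing T] (π : L →+* T)
    (hπ : Function.Surjective π) (hk : IsNilpotent (RingHom.ker π)) {x : L} (hx : IsUnit (π x)) :
    IsUnit x := by
  obtain ⟨y, hy⟩ := hπ ↑hx.unit⁻¹
  have h0 : x * y - 1 ∈ RingHom.ker π := by
    rw [RingHom.mem_ker, map_sub, map_mul, hy, map_one, IsUnit.mul_val_inv, sub_self]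
  obtain ⟨n, hn⟩ := hk
  have hn' : (x * y - 1) ^ n = 0 := by
    simpa [hn] using Ideal.pow_mem_pow h0 n
  have := IsNilpotent.isUnit_add_one ⟨n, hn'⟩
  rw [sub_add_cancel] at this
  exact isUnit_of_mul_isUnit_left this

theorem mul_eq_zero_of_mem {J : Ideal A} (hJ : J ^ 2 = ⊥) {L : Type u} [CommRing L] [Algebra A L]
    {x y : L} (hx : x ∈ J.map (algebraMap A L)) (hy : y ∈ J.map (algebraMap A L)) : x * y = 0 := by
  have := Ideal.mul_mem_mul hx hy
  rw [← Ideal.map_mul, ← pow_two, hJ, Ideal.map_bot] at this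
  simpa using this

theorem smul_eq_zero_of_mem {J : Ideal A} (hJ : J ^ 2 = ⊥) {L : Type u} [CommRing L] [Algebra A L]
    {j : A} (hj : j ∈ J) {y : L} (hy : y ∈ J.map (algebraMap A L)) : j • y = 0 := by
  rw [Algebra.smul_def]
  exact mul_eq_zero_of_mem hJ (Ideal.mem_map_of_mem _ hj) hy

/-- The map from `R₀ ⊗ J` to a flat lift of a localization of `R₀`. -/
theorem exists_mu {J : Ideal A} (hJ : J ^ 2 = ⊥) {R₀ : Type u} [CommRing R₀] [Algebra A R₀] (s : A)
    {L : Type u} [CommRing L] [Algebra A L] [Module.Flat A L] (π : L →ₐ[A] Loc R₀ s)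
    (hπ : Function.Surjective π) (hker : ∀ x, π x = 0 ↔ x ∈ J.map (algebraMap A L)) :
    ∃ μ : R₀ ⊗[A] J →ₗ[A] L,
      (∀ (b : R₀) (j : J) (l : L), π l = algebraMap R₀ _ b → μ (b ⊗ₜ j) = (j : A) • l) ∧
      (∀ m, μ m = 0 → ∃ k : ℕ, s ^ k • m = 0) ∧
      ∀ y ∈ J.map (algebraMap A L), ∃ (k : ℕ) (m : R₀ ⊗[A] J), μ m = s ^ k • y := by
  let g : L →ₗ[A] (J →ₗ[A] L) := LinearMap.mk₂ A (fun l (j : J) => (j : A) • l)
    (fun l l' j => smul_add _ _ _) (fun c l j => smul_comm _ _ _)
    (fun l j j' => by rw [Submodule.coe_add, add_smul]) (fun c l j => by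
      rw [Submodule.coe_smul, smul_eq_mul, mul_smul])
  have hg : LinearMap.ker π.toLinearMap ≤ LinearMap.ker g := fun l hl =>
    LinearMap.mem_ker.2 (LinearMap.ext fun j => smul_eq_zero_of_mem hJ j.2 ((hker l).1 hl))
  let gT : Loc R₀ s →ₗ[A] (J →ₗ[A] L) := (LinearMap.ker π.toLinearMap).liftQ g hg ∘ₗ
    (LinearMap.quotKerEquivOfSurjective π.toLinearMap hπ).symm.toLinearMap
  have hgT : ∀ l, gT (π l) = g l := fun l => by
    show (LinearMap.ker π.toLinearMap).liftQ g hg
      ((LinearMap.quotKerEquivOfSurjective π.toLinearMap hπ).symm (π l)) = g l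
    have e : (LinearMap.quotKerEquivOfSurjective π.toLinearMap hπ).symm (π l) =
        Submodule.Quotient.mk l := (LinearEquiv.symm_apply_eq _).2 rfl
    rw [e, Submodule.liftQ_apply]
  let β : Loc R₀ s ⊗[A] J →ₗ[A] L := TensorProduct.lift gT
  have hβ : Function.Injective β := by
    rw [injective_iff_map_eq_zero]
    intro z hz
    obtain ⟨w, rfl⟩ := LinearMap.rTensor_surjective J (g := π.toLinearMap) hπ z
    have hcomp : β ∘ₗ π.toLinearMap.rTensor J =
        (TensorProduct.rid A L).toLinearMap ∘ₗ (Submodule.subtype J).lTensor L :=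
      TensorProduct.ext' fun l j => by simp [β, hgT, g]
    have h0 := LinearMap.congr_fun hcomp w
    rw [LinearMap.comp_apply, hz] at h0
    have : w = 0 := Module.Flat.lTensor_preserves_injective_linearMap (M := L) (Submodule.subtype J)
      Subtype.val_injective ((TensorProduct.rid A L).injective (by rw [map_zero]; simpa using h0.symm))
    rw [this, map_zero]
  let ι := (IsScalarTower.toAlgHom A R₀ (Loc R₀ s)).toLinearMap
  have hμ : ∀ (b : R₀) (j : J) (l : L), π l = algebraMap R₀ _ b → β (ι.rTensor J (b ⊗ₜ j)) = (j : A) • l := by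
    intro b j l hl
    show gT (algebraMap R₀ _ b) j = (j : A) • l
    rw [← hl, hgT]
    rfl
  refine ⟨β ∘ₗ ι.rTensor J, hμ, fun m hm => ?_, fun y hy => ?_⟩
  · have hm0 : ι.rTensor J m = 0 := hβ (hm.trans (map_zero β).symm)
    let P := Submonoid.powers (algebraMap A R₀ s)
    let θ : Loc R₀ s ⊗[A] J →ₗ[A] LocalizedModule P (R₀ ⊗[A] J) := TensorProduct.lift
      (LinearMap.mk₂ A (fun (t : Loc R₀ s) (j : J) =>
          t • LocalizedModule.mkLinearMap P (R₀ ⊗[A] J) ((1 : R₀) ⊗ₜ j))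
        (fun t t' j => add_smul _ _ _) (fun c t j => smul_assoc _ _ _)
        (fun t j j' => by rw [tmul_add, map_add, smul_add])
        (fun c t j => by rw [tmul_smul, LinearMap.map_smul_of_tower, smul_comm]))
    have hθ : ∀ m, θ (ι.rTensor J m) = LocalizedModule.mkLinearMap P (R₀ ⊗[A] J) m := fun m => by
      induction m using TensorProduct.induction_on with
      | zero => simp
      | tmul b j =>
        show algebraMap R₀ (Loc R₀ s) b • LocalizedModule.mkLinearMap P (R₀ ⊗[A] J) ((1 : R₀) ⊗ₜ j) = _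
        rw [algebraMap_smul, ← map_smul, smul_tmul', smul_eq_mul, mul_one]
      | add x y hx hy => simp [map_add, hx, hy]
    have h0 : LocalizedModule.mkLinearMap P (R₀ ⊗[A] J) m = 0 := by rw [← hθ, hm0, map_zero]
    obtain ⟨⟨_, k, rfl⟩, hk⟩ := (IsLocalizedModule.eq_zero_iff P (LocalizedModule.mkLinearMap P _)).1 h0
    refine ⟨k, ?_⟩
    have hk' : (algebraMap A R₀ s) ^ k • m = 0 := hk
    rwa [← map_pow, algebraMap_smul] at hk'
  · suffices h : ∀ l : L, ∃ (k : ℕ) (m : R₀ ⊗[A] J), β (ι.rTensor J m) = s ^ k • (l * y) by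
      obtain ⟨k, m, hm⟩ := h 1
      exact ⟨k, m, by rw [LinearMap.comp_apply, hm, one_mul]⟩
    induction hy using Submodule.span_induction with
    | mem z hz =>
      obtain ⟨j, hj, rfl⟩ := hz
      intro l
      obtain ⟨k, b, hb⟩ := exists_loc_eq s (π l)
      refine ⟨k, b ⊗ₜ ⟨j, hj⟩, ?_⟩
      rw [hμ b ⟨j, hj⟩ (s ^ k • l) (by rw [map_smul, hb]), mul_comm l, ← Algebra.smul_def]
      exact smul_comm _ _ _
    | zero => exact fun l => ⟨0, 0, by simp⟩
    | add z z' _ _ h1 h2 =>
      intro l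
      obtain ⟨k, m, hm⟩ := h1 l
      obtain ⟨k', m', hm'⟩ := h2 l
      refine ⟨k + k', s ^ k' • m + s ^ k • m', ?_⟩
      rw [map_add, map_add, map_smul, map_smul, map_smul, map_smul, hm, hm', smul_smul, smul_smul,
        mul_add, smul_add, ← pow_add, ← pow_add, add_comm k' k]
    | smul c z _ h =>
      intro l
      obtain ⟨k, m, hm⟩ := h (l * c)
      exact ⟨k, m, by rw [hm, smul_eq_mul, mul_assoc]⟩

theorem mu_natural {J : Ideal A} {R₀ R₀' : Type u} [CommRing R₀] [Algebra A R₀] [CommRing R₀']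
    [Algebra A R₀'] {s s' : A} {L L' : Type u} [CommRing L] [Algebra A L] [CommRing L'] [Algebra A L']
    (π : L →ₐ[A] Loc R₀ s) (hπ : Function.Surjective π) (π' : L' →ₐ[A] Loc R₀' s')
    (μ : R₀ ⊗[A] J →ₗ[A] L) (μ' : R₀' ⊗[A] J →ₗ[A] L')
    (hμ : ∀ (b : R₀) (j : J) (l : L), π l = algebraMap R₀ _ b → μ (b ⊗ₜ j) = (j : A) • l)
    (hμ' : ∀ (b : R₀') (j : J) (l : L'), π' l = algebraMap R₀' _ b → μ' (b ⊗ₜ j) = (j : A) • l)
    (f : R₀ →ₐ[A] R₀') (h : s ∣ s') (ψ : L →ₐ[A] L') (hψ : π'.comp ψ = (locMap f h).comp π)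
    (m : R₀ ⊗[A] J) : ψ (μ m) = μ' (f.toLinearMap.rTensor J m) := by
  induction m using TensorProduct.induction_on with
  | zero => simp
  | tmul b j =>
    obtain ⟨l, hl⟩ := hπ (algebraMap R₀ _ b)
    rw [hμ b j l hl, map_smul, LinearMap.rTensor_tmul]
    refine (hμ' (f b) j (ψ l) ?_).symm
    have := AlgHom.congr_fun hψ l
    simp only [AlgHom.comp_apply] at this
    rw [this, hl, locMap_algebraMap]
  | add x y hx hy => simp [map_add, hx, hy]

/-- Étale algebras over a quotient lift. -/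
theorem exists_lift_loc {J : Ideal A} {B₀ : Type u} [CommRing B₀] [Algebra A B₀] [Algebra (A ⧸ J) B₀]
    [IsScalarTower A (A ⧸ J) B₀] (s : A) [Algebra.Etale (A ⧸ J) (Loc B₀ s)] :
    ∃ (L : Type u) (_ : CommRing L) (_ : Algebra A L) (π : L →ₐ[A] Loc B₀ s),
      Algebra.Etale A L ∧ Function.Surjective π ∧ ∀ x, π x = 0 ↔ x ∈ J.map (algebraMap A L) := by
  obtain ⟨L, _, _, hL, ⟨e⟩⟩ := Groth.Agent.Hensel.exists_etale_algebra_lift (A := A) (T := A ⧸ J)
    (C := Loc B₀ s) Ideal.Quotient.mk_surjective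
  refine ⟨L, inferInstance, inferInstance,
    (e.toAlgHom.restrictScalars A).comp Algebra.TensorProduct.includeRight, hL, fun z => ?_, fun x => ?_⟩
  · obtain ⟨x, hx⟩ := TensorProduct.mk_surjective A L (A ⧸ J) Ideal.Quotient.mk_surjective (e.symm z)
    exact ⟨x, by show e ((1 : A ⧸ J) ⊗ₜ x) = z; rw [show (1 : A ⧸ J) ⊗ₜ[A] x = e.symm z from hx, e.apply_symm_apply]⟩
  · show e ((1 : A ⧸ J) ⊗ₜ x) = 0 ↔ _
    rw [map_eq_zero_iff e e.injective, Groth.Agent.CAlgOdd.one_tmul_quot_eq_zero_iff,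
      Ideal.smul_top_eq_map, Submodule.restrictScalars_mem]

/-- The localization of the reduction. -/
theorem loc_quotient (J : Ideal A) (C : Type u) [CommRing C] [Algebra A C] (s : A) :
    Function.Surjective (locMap (Ideal.Quotient.mkₐ A (J.map (algebraMap A C))) (dvd_refl s)) ∧
      ∀ x, locMap (Ideal.Quotient.mkₐ A (J.map (algebraMap A C))) (dvd_refl s) x = 0 ↔
        x ∈ J.map (algebraMap A (Loc C s)) := by
  set q := Ideal.Quotient.mkₐ A (J.map (algebraMap A C)) with hq
  refine ⟨fun z => ?_, fun x => ⟨fun hx => ?_, fun hx => ?_⟩⟩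
  · obtain ⟨k, b, hb⟩ := exists_loc_eq s z
    obtain ⟨c, rfl⟩ := Ideal.Quotient.mkₐ_surjective A (J.map (algebraMap A C)) b
    obtain ⟨u, hu⟩ := (isUnit_loc_of_dvd (R := C) (dvd_refl s)).pow k
    refine ⟨↑u⁻¹ * algebraMap C _ c, loc_smul_cancel (dvd_refl s) (k := k) ?_⟩
    rw [← map_smul, hb, Algebra.smul_def, map_pow, ← hu, ← mul_assoc, Units.mul_inv, one_mul,
      locMap_algebraMap]
  · obtain ⟨k, c, hc⟩ := exists_loc_eq s x
    have h0 : algebraMap _ (Loc (C ⧸ J.map (algebraMap A C)) s) (q c) = 0 := by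
      rw [← locMap_algebraMap q (dvd_refl s), ← hc, map_smul, hx, smul_zero]
    obtain ⟨m, hm⟩ := exists_pow_smul_eq_zero s h0
    rw [← map_smul, hq, Ideal.Quotient.mkₐ_eq_mk, Ideal.Quotient.eq_zero_iff_mem] at hm
    have h1 := Ideal.mem_map_of_mem (algebraMap C (Loc C s)) hm
    rw [Ideal.map_map, ← IsScalarTower.algebraMap_eq, loc_algebraMap_smul, ← hc, smul_smul,
      Algebra.smul_def, map_mul, map_pow, map_pow] at h1
    exact (Ideal.unit_mul_mem_iff_mem _
      (((isUnit_loc_of_dvd (dvd_refl s)).pow m).mul ((isUnit_loc_of_dvd (dvd_refl s)).pow k))).1 h1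
  · have hle : J.map (algebraMap A (Loc C s)) ≤ RingHom.ker (locMap q (dvd_refl s)).toRingHom := by
      refine Ideal.map_le_iff_le_comap.2 fun j hj => ?_
      rw [Ideal.mem_comap, RingHom.mem_ker]
      show locMap q (dvd_refl s) (algebraMap A (Loc C s) j) = 0
      rw [← algebraMap_loc, locMap_algebraMap, hq, Ideal.Quotient.mkₐ_eq_mk,
        Ideal.Quotient.eq_zero_iff_mem.2 (Ideal.mem_map_of_mem _ hj), map_zero]
    exact hle hx

/-- The lifted transition maps are localizations. -/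
theorem transition_facts {J : Ideal A} (hJ : IsNilpotent J) {B₀ : Type u} [CommRing B₀] [Algebra A B₀]
    {s t : A} {L L' : Type u} [CommRing L] [Algebra A L] [CommRing L'] [Algebra A L']
    [Algebra.Etale A L] [Algebra.Etale A L']
    (π : L →ₐ[A] Loc B₀ s) (hπ : Function.Surjective π) (hker : ∀ x, π x = 0 ↔ x ∈ J.map (algebraMap A L))
    (π' : L' →ₐ[A] Loc B₀ (s * t)) (hπ' : Function.Surjective π')
    (hker' : ∀ x, π' x = 0 ↔ x ∈ J.map (algebraMap A L'))
    (ρ : L →ₐ[A] L') (hρ : π'.comp ρ = (locMap (AlgHom.id A B₀) (dvd_mul_right s t)).comp π) :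
    (∀ x, ρ x = 0 → ∃ k : ℕ, t ^ k • x = 0) ∧ ∀ y, ∃ (k : ℕ) (x : L), ρ x = t ^ k • y := by
  have hunit' : ∀ {a : A}, a ∣ s * t → IsUnit (algebraMap A L' a) := fun {a} ha =>
    isUnit_of_surjective π'.toRingHom hπ' (by
      rw [show RingHom.ker π'.toRingHom = J.map (algebraMap A L') from Ideal.ext hker']
      exact isNilpotent_map hJ) (by
      show IsUnit (π' (algebraMap A L' a))
      rw [AlgHom.commutes]; exact isUnit_loc_of_dvd ha)
  have hunit : IsUnit (algebraMap A L s) :=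
    isUnit_of_surjective π.toRingHom hπ (by
      rw [show RingHom.ker π.toRingHom = J.map (algebraMap A L) from Ideal.ext hker]
      exact isNilpotent_map hJ) (by
      show IsUnit (π (algebraMap A L s))
      rw [AlgHom.commutes]; exact isUnit_loc_of_dvd (dvd_refl s))
  let ψ : Loc L t →ₐ[A] L' := IsLocalization.liftAlgHom (M := Submonoid.powers (algebraMap A L t))
    (f := ρ) fun y => by
      obtain ⟨_, n, rfl⟩ := y
      rw [map_pow, AlgHom.commutes]
      exact (hunit' (dvd_mul_left t s)).pow n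
  have hψ : ∀ x, ψ (algebraMap L _ x) = ρ x := fun x => IsLocalization.lift_eq _ x
  letI : Algebra (Loc L t) L' := ψ.toRingHom.toAlgebra
  haveI : IsScalarTower A (Loc L t) L' := IsScalarTower.of_algebraMap_eq fun a => (ψ.commutes a).symm
  haveI : Algebra.Etale L (Loc L t) := Algebra.Etale.of_isLocalizationAway (algebraMap A L t)
  haveI : Algebra.Etale A (Loc L t) := Algebra.Etale.comp A L (Loc L t)
  haveI : Algebra.Etale (Loc L t) L' := Algebra.Etale.of_restrictScalars A (Loc L t) L'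
  have hres : ∀ x, π' (ρ x) = locMap (AlgHom.id A B₀) (dvd_mul_right s t) (π x) := AlgHom.congr_fun hρ
  have hJmap : (J.map (algebraMap A (Loc L t))).map (algebraMap (Loc L t) L') = J.map (algebraMap A L') := by
    rw [Ideal.map_map, ← IsScalarTower.algebraMap_eq]
  have hb : Function.Bijective (algebraMap (Loc L t) L') := by
    refine bijective_of_flat (Q := J.map (algebraMap A (Loc L t))) (isNilpotent_map hJ) (fun y => ?_) ?_
    · obtain ⟨k, b, hb⟩ := exists_loc_eq (s * t) (π' y)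
      obtain ⟨l, hl⟩ := hπ (algebraMap B₀ _ b)
      have hu : IsUnit (algebraMap A (Loc L t) ((s * t) ^ k)) := by
        rw [map_pow, map_mul]
        refine ((IsUnit.mul ?_ (isUnit_loc_of_dvd (dvd_refl t))).pow k)
        exact algebraMap_loc (R := L) t s ▸ hunit.map (algebraMap L (Loc L t))
      obtain ⟨u, hu⟩ := hu
      refine ⟨↑u⁻¹ * algebraMap L _ l, ?_⟩
      rw [hJmap, ← hker', map_sub, sub_eq_zero]
      refine loc_smul_cancel (dvd_refl (s * t)) (k := k) ?_
      rw [hb, ← map_smul, Algebra.smul_def, IsScalarTower.algebraMap_apply A (Loc L t) L', ← hu,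
        ← map_mul, ← mul_assoc, Units.mul_inv, one_mul]
      show algebraMap B₀ _ b = π' (ψ (algebraMap L _ l))
      rw [hψ, hres, hl, locMap_algebraMap]
      rfl
    · intro x hx
      rw [hJmap, ← hker'] at hx
      obtain ⟨n, l, hl⟩ := exists_loc_eq t x
      have h1 : locMap (AlgHom.id A B₀) (dvd_mul_right s t) (π l) = 0 := by
        rw [← hres, ← hψ, ← hl, map_smul, map_smul]
        exact smul_eq_zero_of_right _ hx
      obtain ⟨k, b, hkb⟩ := exists_loc_eq s (π l)
      have h2 : algebraMap B₀ (Loc B₀ (s * t)) b = 0 := by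
        rw [show b = AlgHom.id A B₀ b from rfl, ← locMap_algebraMap _ (dvd_mul_right s t), ← hkb,
          map_smul, h1, smul_zero]
      obtain ⟨m, hm⟩ := exists_pow_smul_eq_zero _ h2
      have h3 : t ^ m • π l = 0 := by
        refine loc_smul_cancel (dvd_refl s) (k := m + k) ?_
        rw [smul_zero, smul_smul, show s ^ (m + k) * t ^ m = (s * t) ^ m * s ^ k by ring, mul_smul, hkb,
          ← loc_algebraMap_smul, hm, map_zero]
      rw [← map_smul, hker] at h3
      have h4 := Ideal.mem_map_of_mem (algebraMap L (Loc L t)) h3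
      rw [Ideal.map_map, ← IsScalarTower.algebraMap_eq, loc_algebraMap_smul, ← hl, smul_smul,
        Algebra.smul_def, map_mul, map_pow, map_pow] at h4
      exact (Ideal.unit_mul_mem_iff_mem _
        (((isUnit_loc_of_dvd (dvd_refl t)).pow m).mul ((isUnit_loc_of_dvd (dvd_refl t)).pow n))).1 h4
  refine ⟨fun x hx => exists_pow_smul_eq_zero t (hb.1 ?_), fun y => ?_⟩
  · rw [map_zero]; exact (hψ x).trans hx
  · obtain ⟨z, rfl⟩ := hb.2 y
    obtain ⟨k, x, hx⟩ := exists_loc_eq t z
    refine ⟨k, x, ?_⟩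
    rw [← hψ, ← hx, map_smul]
    rfl

end Groth.Agent.H1Lift
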