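import Groth.Agent.H1Lift.Lifts

/-!
# Iterated localizations and reductions
-/

set_option autoImplicit false
set_option linter.style.haveILetI false

universe u

open TensorProduct

namespace Groth.Agent.H1Lift

variable {A : Type u} [CommRing A] {R : Type u} [CommRing R] [Algebra A R]

/-- Localizing twice is localizing at the product. -/
theorem nonempty_locLoc (s t : A) : Nonempty (Loc (Loc R s) t ≃ₐ[A] Loc R (s * t)) := by
  let f₁ : Loc R s →ₐ[A] Loc R (s * t) := locMap (AlgHom.id A R) (dvd_mul_right s t)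
  let f : Loc (Loc R s) t →ₐ[A] Loc R (s * t) := IsLocalization.liftAlgHom
    (M := Submonoid.powers (algebraMap A (Loc R s) t)) (f := f₁) fun y => by
      obtain ⟨_, n, rfl⟩ := y
      rw [map_pow, AlgHom.commutes]
      exact (isUnit_loc_of_dvd (dvd_mul_left t s)).pow n
  let g₁ : R →ₐ[A] Loc (Loc R s) t :=
    (IsScalarTower.toAlgHom A (Loc R s) (Loc (Loc R s) t)).comp (IsScalarTower.toAlgHom A R (Loc R s))
  let g : Loc R (s * t) →ₐ[A] Loc (Loc R s) t := IsLocalization.liftAlgHom
    (M := Submonoid.powers (algebraMap A R (s * t))) (f := g₁) fun y => by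
      obtain ⟨_, n, rfl⟩ := y
      rw [map_pow, AlgHom.commutes, map_mul]
      refine (IsUnit.mul ?_ (isUnit_loc_of_dvd (dvd_refl t))).pow n
      exact algebraMap_loc (R := Loc R s) t s ▸
        (isUnit_loc_of_dvd (R := R) (dvd_refl s)).map (algebraMap (Loc R s) (Loc (Loc R s) t))
  have hf : ∀ x, f (algebraMap (Loc R s) _ x) = f₁ x := fun x => IsLocalization.lift_eq _ x
  have hg : ∀ x, g (algebraMap R _ x) = g₁ x := fun x => IsLocalization.lift_eq _ x
  refine ⟨AlgEquiv.ofAlgHom f g (loc_algHom_ext fun x => ?_) (loc_algHom_ext fun x => ?_)⟩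
  · rw [AlgHom.comp_apply, hg]
    show f (algebraMap (Loc R s) _ (algebraMap R (Loc R s) x)) = algebraMap R (Loc R (s * t)) x
    rw [hf, locMap_algebraMap]; rfl
  · rw [AlgHom.comp_apply, hf]
    show g (f₁ x) = algebraMap (Loc R s) (Loc (Loc R s) t) x
    have : g.comp f₁ = IsScalarTower.toAlgHom A (Loc R s) (Loc (Loc R s) t) :=
      loc_algHom_ext fun r => by
        show g (locMap (AlgHom.id A R) (dvd_mul_right s t) (algebraMap R (Loc R s) r)) = _
        rw [locMap_algebraMap, hg]; rfl
    exact AlgHom.congr_fun this x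

/-- Being étale over the base is local for a cover of `D(a)`. -/
theorem etale_loc_of_span {r : ℕ} (c : Fin r → A) {a : A} (ha : a ∈ Ideal.span (Set.range c))
    (h : ∀ i, Algebra.Etale A (Loc R (c i))) : Algebra.Etale A (Loc R a) := by
  rw [← RingHom.etale_algebraMap]
  refine RingHom.Etale.ofLocalizationSpanTarget (algebraMap A (Loc R a))
    (Set.range fun i => algebraMap A (Loc R a) (c i)) ?_ ?_
  · refine Ideal.eq_top_of_isUnit_mem _ ?_ (isUnit_loc_of_dvd (R := R) (dvd_refl a))
    rw [show (Set.range fun i => algebraMap A (Loc R a) (c i)) = algebraMap A (Loc R a) '' Set.range c from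
      (Set.range_comp _ _), ← Ideal.map_span]
    exact Ideal.mem_map_of_mem _ ha
  · rintro ⟨_, i, rfl⟩
    show RingHom.Etale ((algebraMap (Loc R a) (Loc (Loc R a) (c i))).comp (algebraMap A (Loc R a)))
    rw [← IsScalarTower.algebraMap_eq, RingHom.etale_algebraMap]
    haveI := h i
    haveI : Algebra.Etale (Loc R (c i)) (Loc (Loc R (c i)) a) :=
      Algebra.Etale.of_isLocalizationAway (algebraMap A (Loc R (c i)) a)
    haveI : Algebra.Etale A (Loc (Loc R (c i)) a) := Algebra.Etale.comp A (Loc R (c i)) _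
    obtain ⟨e₁⟩ := nonempty_locLoc (R := R) (c i) a
    obtain ⟨e₂⟩ := nonempty_locLoc (R := R) a (c i)
    haveI := Algebra.Etale.of_equiv e₁
    haveI : Algebra.Etale A (Loc R (a * c i)) := by rw [mul_comm]; infer_instance
    exact Algebra.Etale.of_equiv e₂.symm

/-- Elements of `R` vanishing in a further localization are torsion in the first. -/
theorem locMap_torsion {s t w : A} (hw : w = s * t) (h : s ∣ w) {z : Loc R s}
    (hz : locMap (AlgHom.id A R) h z = 0) : ∃ k : ℕ, t ^ k • z = 0 := by
  subst hw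
  obtain ⟨k, b, hb⟩ := exists_loc_eq s z
  have h2 : algebraMap R (Loc R (s * t)) b = 0 := by
    rw [show b = AlgHom.id A R b from rfl, ← locMap_algebraMap _ h, ← hb, map_smul, hz, smul_zero]
  obtain ⟨m, hm⟩ := exists_pow_smul_eq_zero _ h2
  refine ⟨m, loc_smul_cancel (dvd_refl s) (k := m + k) ?_⟩
  rw [smul_zero, smul_smul, show s ^ (m + k) * t ^ m = (s * t) ^ m * s ^ k by ring, mul_smul, hb,
    ← loc_algebraMap_smul, hm, map_zero]

end Groth.Agent.H1Lift
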