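import Mathlib.AlgebraicGeometry.Stalk
import Mathlib.AlgebraicGeometry.AffineScheme
import Mathlib.RingTheory.LocalRing.RingHom.Basic
import Mathlib.RingTheory.Spectrum.Prime.Topology

/-!
# Morphisms from local affine schemes
-/

universe u

open CategoryTheory AlgebraicGeometry IsLocalRing

namespace Groth.Agent.H1Lift

variable {X : Scheme.{u}} {U : X.Opens} (hU : IsAffineOpen U)

/-- A morphism from the spectrum of a local ring factors through an affine open around the image of the closed point. -/
theorem exists_factor {L : Type u} [CommRing L] [IsLocalRing L] (φ : Spec (CommRingCat.of L) ⟶ X)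
    (h : φ (closedPoint L) ∈ U) :
    ∃ b : Γ(X, U) ⟶ CommRingCat.of L, Spec.map b ≫ hU.fromSpec = φ := by
  have hr : Set.range φ ⊆ Set.range hU.fromSpec := by
    rw [hU.range_fromSpec]
    rintro _ ⟨p, rfl⟩
    exact Specializes.mem_open
      ((show p ⤳ closedPoint L from IsLocalRing.specializes_closedPoint p).map φ.continuous) U.2 h
  exact ⟨Spec.preimage (IsOpenImmersion.lift hU.fromSpec φ hr),
    by rw [Spec.map_preimage]; exact IsOpenImmersion.lift_fac _ _ _⟩

theorem factor_inj {A : CommRingCat.{u}} {b c : Γ(X, U) ⟶ A} (h : Spec.map b ≫ hU.fromSpec = Spec.map c ≫ hU.fromSpec) :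
    b = c :=
  Spec.map_injective ((cancel_mono hU.fromSpec).1 h)

/-- A morphism with image in an affine open factors through it. -/
theorem exists_factor_of_forall {A : CommRingCat.{u}} (φ : Spec A ⟶ X) (h : ∀ p, φ p ∈ U) :
    ∃ b : Γ(X, U) ⟶ A, Spec.map b ≫ hU.fromSpec = φ := by
  have hr : Set.range φ ⊆ Set.range hU.fromSpec := by
    rw [hU.range_fromSpec]
    rintro _ ⟨p, rfl⟩
    exact h p
  exact ⟨Spec.preimage (IsOpenImmersion.lift hU.fromSpec φ hr),
    by rw [Spec.map_preimage]; exact IsOpenImmersion.lift_fac _ _ _⟩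

/-- A local homomorphism preserves closed points. -/
theorem map_closedPoint {L L' : Type u} [CommRing L] [IsLocalRing L] [CommRing L'] [IsLocalRing L'] (f : L →+* L')
    [IsLocalHom f] : Spec.map (CommRingCat.ofHom f) (closedPoint L') = closedPoint L :=
  IsLocalRing.comap_closedPoint f

end Groth.Agent.H1Lift
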