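import Groth.Agent.H1Lift.Sys
import Groth.Agent.H1Lift.LocLoc

/-!
# Lifting along a square zero ideal
-/

set_option autoImplicit false
set_option linter.style.haveILetI false

universe u

open TensorProduct

namespace Groth.Agent.H1Lift

theorem mem_of_torsion {R S : Type u} [CommRing R] [CommRing S] [Algebra R S] [Module.Flat R S]
    {P : Ideal R} (n : ℕ) (hs : SurjMod P S) (hi : InjMod P S) {J' : Ideal R} {r : R}
    (hr : ∀ q ∈ P ^ n, q * r ∈ J') (h0 : algebraMap R S r ∈ J'.map (algebraMap R S)) : r ∈ J' := by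
  have h1 := tmul_mem_of_flat (J' := J') (J'' := Ideal.span {r}) r (Ideal.mem_span_singleton_self r) h0
  have hX : ∀ q ∈ P ^ n, ∀ x : Submodule.map (Submodule.mkQ J') (Ideal.span {r}), q • x = 0 := by
    rintro q hq ⟨_, y, hy, rfl⟩
    obtain ⟨d, rfl⟩ := Ideal.mem_span_singleton'.1 hy
    refine Subtype.ext ?_
    show q • Submodule.mkQ J' (d * r) = 0
    rw [← map_smul, Submodule.mkQ_apply, Submodule.Quotient.mk_eq_zero, smul_eq_mul, mul_left_comm]
    exact J'.mul_mem_left _ (hr q hq)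
  have h2 := one_tmul_injective (surjMod_pow hs n) (injMod_pow hs hi n) hX (h1.trans (tmul_zero _ _).symm)
  exact (Submodule.Quotient.mk_eq_zero _).1 (congrArg Subtype.val h2)

/-- If `X` is `B` modulo `I` after killing a square zero ideal `K`, it is `B` modulo `I`. -/
theorem surjMod_of_sq {B X : Type u} [CommRing B] [CommRing X] [Algebra B X] {I K : Ideal B}
    (hK : K ^ 2 = ⊥) (h : SurjMod (I ⊔ K) X) : SurjMod I X := by
  have := eq_top_of_le_sup_smul ⟨2, hK.trans Ideal.zero_eq_bot.symm⟩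
    (LinearMap.range (Algebra.linearMap B X) ⊔ (I.map (algebraMap B X)).restrictScalars B)
    (fun x _ => by
      obtain ⟨b, hb⟩ := h x
      rw [Ideal.map_sup] at hb
      obtain ⟨y, hy, z, hz, e⟩ := Submodule.mem_sup.1 hb
      rw [Ideal.smul_top_eq_map, show x = (algebraMap B X b + y) + z by rw [add_assoc, e]; ring]
      exact Submodule.add_mem_sup (Submodule.add_mem_sup ⟨b, rfl⟩ hy) hz)
  intro x
  have hx : x ∈ LinearMap.range (Algebra.linearMap B X) ⊔ (I.map (algebraMap B X)).restrictScalars B :=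
    this ▸ Submodule.mem_top
  obtain ⟨_, ⟨b, rfl⟩, y, hy, rfl⟩ := Submodule.mem_sup.1 hx
  exact ⟨b, by simpa using hy⟩

theorem pow_two_sup_le {B : Type u} [CommRing B] {I K : Ideal B} (hK : K ^ 2 = ⊥) (n : ℕ) :
    (I ⊔ K) ^ (2 * n) ≤ I ^ n := by
  rw [pow_mul]
  refine Ideal.pow_right_mono ?_ n
  rw [pow_two, Ideal.sup_mul, Ideal.mul_sup, Ideal.mul_sup, ← pow_two K, hK, sup_bot_eq]
  exact sup_le (sup_le Ideal.mul_le_left Ideal.mul_le_left) Ideal.mul_le_right

variable {A : Type u} [CommRing A] {I J : Ideal A} {B₀ : Type u} [CommRing B₀] [Algebra A B₀]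
  {C : Type u} [CommRing C] [Algebra A C] {f : B₀ →ₐ[A] C ⧸ J.map (algebraMap A C)}

variable (S : Sys I J f) {r : ℕ} (a : Fin r → I)

/-- The product of two members of the family. -/
def pr (i j : Fin r) : I := ⟨a i * a j, I.mul_mem_right _ (a i).2⟩

/-- The algebra of compatible systems. -/
noncomputable def Eq' : Subalgebra A (B₀ × C × ∀ i, S.L (a i)) where
  carrier := {q | Ideal.Quotient.mk _ q.2.1 = f q.1 ∧
    (∀ i, S.π (a i) (q.2.2 i) = algebraMap B₀ _ q.1) ∧
    (∀ i, S.φ (a i) (q.2.2 i) = algebraMap C _ q.2.1) ∧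
    ∀ i j, S.ρ (s := a i) (t := pr a i j) (dvd_mul_right _ _) (q.2.2 i) =
      S.ρ (s := a j) (t := pr a i j) (dvd_mul_left _ _) (q.2.2 j)}
  mul_mem' := by
    rintro p q ⟨h1, h2, h3, h4⟩ ⟨k1, k2, k3, k4⟩
    refine ⟨?_, fun i => ?_, fun i => ?_, fun i j => ?_⟩ <;>
      simp only [Prod.fst_mul, Prod.snd_mul, Pi.mul_apply, map_mul]
    · rw [h1, k1]
    · rw [h2, k2]
    · rw [h3, k3]
    · rw [h4, k4]
  add_mem' := by
    rintro p q ⟨h1, h2, h3, h4⟩ ⟨k1, k2, k3, k4⟩
    refine ⟨?_, fun i => ?_, fun i => ?_, fun i j => ?_⟩ <;>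
      simp only [Prod.fst_add, Prod.snd_add, Pi.add_apply, map_add]
    · rw [h1, k1]
    · rw [h2, k2]
    · rw [h3, k3]
    · rw [h4, k4]
  algebraMap_mem' x := by
    refine ⟨?_, fun i => ?_, fun i => ?_, fun i j => ?_⟩
    · exact ((Ideal.Quotient.mkₐ A (J.map (algebraMap A C))).commutes x).trans (f.commutes x).symm
    · exact ((S.π (a i)).commutes x).trans (algebraMap_loc _ x).symm
    · exact ((S.φ (a i)).commutes x).trans (algebraMap_loc _ x).symm
    · exact ((S.ρ _).commutes x).trans ((S.ρ _).commutes x).symm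

/-- Projection to `B₀`. -/
noncomputable def toB : Eq' S a →ₐ[A] B₀ := (AlgHom.fst A B₀ (C × ∀ i, S.L (a i))).comp (Eq' S a).val

/-- Projection to `C`. -/
noncomputable def toC : Eq' S a →ₐ[A] C :=
  ((AlgHom.fst A C (∀ i, S.L (a i))).comp (AlgHom.snd A B₀ _)).comp (Eq' S a).val

/-- Projection to a lift. -/
noncomputable def toL (i : Fin r) : Eq' S a →ₐ[A] S.L (a i) :=
  ((Pi.evalAlgHom A (fun i => S.L (a i)) i).comp
    ((AlgHom.snd A C _).comp (AlgHom.snd A B₀ _))).comp (Eq' S a).val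

theorem eq_ext {p q : Eq' S a} (h1 : toB S a p = toB S a q) (h2 : toC S a p = toC S a q)
    (h3 : ∀ i, toL S a i p = toL S a i q) : p = q :=
  Subtype.ext (Prod.ext h1 (Prod.ext h2 (funext h3)))

theorem mk_toC (q : Eq' S a) : Ideal.Quotient.mk _ (toC S a q) = f (toB S a q) := q.2.1

theorem π_toL (q : Eq' S a) (i : Fin r) :
    S.π (a i) (toL S a i q) = algebraMap B₀ _ (toB S a q) := q.2.2.1 i

theorem φ_toL (q : Eq' S a) (i : Fin r) :
    S.φ (a i) (toL S a i q) = algebraMap C _ (toC S a q) := q.2.2.2.1 i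

theorem toC_mem {q : Eq' S a} (hq : toB S a q = 0) : toC S a q ∈ J.map (algebraMap A C) := by
  rw [← Ideal.Quotient.eq_zero_iff_mem, mk_toC, hq, map_zero]

theorem toL_mem {q : Eq' S a} (hq : toB S a q = 0) (i : Fin r) :
    toL S a i q ∈ J.map (algebraMap A (S.L (a i))) := by
  rw [← S.ker, π_toL, hq, map_zero]

theorem ker_sq (hJ : J ^ 2 = ⊥) : RingHom.ker (toB S a).toRingHom ^ 2 = ⊥ := by
  rw [pow_two, eq_bot_iff, Ideal.mul_le]
  intro p (hp : toB S a p = 0) q (hq : toB S a q = 0)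
  rw [Ideal.mem_bot]
  exact eq_ext S a (by simp [hp]) (by simp [mul_eq_zero_of_mem hJ (toC_mem S a hp) (toC_mem S a hq)])
    fun i => by simp [mul_eq_zero_of_mem hJ (toL_mem S a hp i) (toL_mem S a hq i)]

theorem toL_torsion (hJ : IsNilpotent J) {i : Fin r} {q : Eq' S a} (hq : toL S a i q = 0) :
    ∃ k : ℕ, (a i : A) ^ k • q = 0 := by
  obtain ⟨k₁, h₁⟩ := exists_pow_smul_eq_zero (a i : A) (x := toB S a q) (by rw [← π_toL, hq, map_zero])
  obtain ⟨k₂, h₂⟩ := exists_pow_smul_eq_zero (a i : A) (x := toC S a q) (by rw [← φ_toL, hq, map_zero])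
  have h₃ : ∀ j, ∃ k : ℕ, (a i : A) ^ k • toL S a j q = 0 := fun j =>
    (S.facts hJ (t := pr a i j) (dvd_mul_left _ _) (mul_comm _ _)).1 _ (by
      rw [show S.ρ (s := a j) (t := pr a i j) (dvd_mul_left _ _) (toL S a j q) = _ from (q.2.2.2.2 i j).symm]
      exact (congrArg _ hq).trans (map_zero _))
  choose k₃ h₃ using h₃
  refine ⟨k₁ + k₂ + Finset.univ.sup k₃, eq_ext S a ?_ ?_ fun j => ?_⟩ <;> rw [map_smul, map_zero]
  · exact pow_smul_eq_zero_of_le _ (by omega) h₁
  · exact pow_smul_eq_zero_of_le _ (by omega) h₂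
  · exact pow_smul_eq_zero_of_le _
      ((Finset.le_sup (Finset.mem_univ j)).trans (Nat.le_add_left _ _)) (h₃ j)

open Filter in
theorem eventually_smul_eq {M : Type u} [AddCommGroup M] [Module A M] (t : A) {x y : M} {k : ℕ}
    (h : t ^ k • (x - y) = 0) : ∀ᶠ m in atTop, t ^ m • x = t ^ m • y :=
  eventually_atTop.2 ⟨k, fun m hm => sub_eq_zero.1 (by rw [← smul_sub]; exact pow_smul_eq_zero_of_le t hm h)⟩

open Filter in
theorem toL_surj (hJ : IsNilpotent J) (i : Fin r) (x : S.L (a i)) :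
    ∃ (k : ℕ) (q : Eq' S a), toL S a i q = (a i : A) ^ k • x := by
  obtain ⟨kb, b, hb⟩ := exists_loc_eq (a i : A) (S.π (a i) x)
  obtain ⟨kc, c, hc⟩ := exists_loc_eq (a i : A) (S.φ (a i) x)
  choose kx y hy using fun j =>
    (S.facts hJ (t := pr a i j) (b := (a i : A)) (dvd_mul_left _ _) (mul_comm _ _)).2
      (S.ρ (s := a i) (dvd_mul_right _ _) x)
  let M := kb + kc + Finset.univ.sup kx
  have hM : ∀ j, kx j ≤ M := fun j => (Finset.le_sup (Finset.mem_univ j)).trans (Nat.le_add_left _ _)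
  let b' := (a i : A) ^ (M - kb) • b
  let c' := (a i : A) ^ (M - kc) • c
  let y' : ∀ j, S.L (a j) := fun j => (a i : A) ^ (M - kx j) • y j
  have hb' : (a i : A) ^ M • S.π (a i) x = algebraMap B₀ _ b' := by
    rw [loc_algebraMap_smul, ← hb, smul_smul, ← pow_add, Nat.sub_add_cancel (by omega)]
  have hc' : (a i : A) ^ M • S.φ (a i) x = algebraMap C _ c' := by
    rw [loc_algebraMap_smul, ← hc, smul_smul, ← pow_add, Nat.sub_add_cancel (by omega)]
  have hy' : ∀ j, S.ρ (s := a j) (t := pr a i j) (dvd_mul_left _ _) (y' j) =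
      (a i : A) ^ M • S.ρ (s := a i) (dvd_mul_right _ _) x := fun j =>
    smul_pow_of_le (S.ρ (s := a j) (t := pr a i j) (dvd_mul_left _ _)).toLinearMap _ (hM j) (hy j)
  have e1 : ∀ᶠ m in atTop, (a i : A) ^ m • Ideal.Quotient.mk (J.map (algebraMap A C)) c' =
      (a i : A) ^ m • f b' := by
    have h0 : algebraMap _ (Loc (C ⧸ J.map (algebraMap A C)) (a i : A))
        (Ideal.Quotient.mk (J.map (algebraMap A C)) c' - f b') = 0 := by
      rw [map_sub, sub_eq_zero]
      rw [show Ideal.Quotient.mk (J.map (algebraMap A C)) c' = Ideal.Quotient.mkₐ A _ c' from rfl,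
        ← locMap_algebraMap _ (dvd_refl _), ← locMap_algebraMap f (dvd_refl _), ← hc', ← hb', map_smul,
        map_smul]
      exact congrArg _ (S.red_φ (a i) x)
    obtain ⟨k, hk⟩ := exists_pow_smul_eq_zero _ h0
    exact eventually_smul_eq _ hk
  have e2 : ∀ j, ∀ᶠ m in atTop, (a i : A) ^ m • S.π (a j) (y' j) = (a i : A) ^ m • algebraMap B₀ _ b' := by
    intro j
    obtain ⟨k, hk⟩ := locMap_torsion (R := B₀) (s := (a j : A)) (w := (pr a i j : A)) (mul_comm _ _)
      (dvd_mul_left _ _) (z := S.π (a j) (y' j) - algebraMap B₀ _ b') (by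
        rw [map_sub, ← S.π_ρ (s := a j) (t := pr a i j) (dvd_mul_left _ _), hy', map_smul,
          S.π_ρ (s := a i) (t := pr a i j) (dvd_mul_right _ _), ← map_smul, hb']
        exact sub_eq_zero.2 ((locMap_algebraMap _ _ b').trans (locMap_algebraMap _ _ b').symm))
    exact eventually_smul_eq _ hk
  have e3 : ∀ j, ∀ᶠ m in atTop, (a i : A) ^ m • S.φ (a j) (y' j) = (a i : A) ^ m • algebraMap C _ c' := by
    intro j
    obtain ⟨k, hk⟩ := locMap_torsion (R := C) (s := (a j : A)) (w := (pr a i j : A)) (mul_comm _ _)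
      (dvd_mul_left _ _) (z := S.φ (a j) (y' j) - algebraMap C _ c') (by
        rw [map_sub, ← S.φ_ρ hJ (s := a j) (t := pr a i j) (dvd_mul_left _ _), hy', map_smul,
          S.φ_ρ hJ (s := a i) (t := pr a i j) (dvd_mul_right _ _), ← map_smul, hc']
        exact sub_eq_zero.2 ((locMap_algebraMap _ _ c').trans (locMap_algebraMap _ _ c').symm))
    exact eventually_smul_eq _ hk
  have e4 : ∀ p : Fin r × Fin r, ∀ᶠ m in atTop,
      (a i : A) ^ m • S.ρ (s := a p.1) (t := pr a p.1 p.2) (dvd_mul_right _ _) (y' p.1) =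
        (a i : A) ^ m • S.ρ (s := a p.2) (t := pr a p.1 p.2) (dvd_mul_left _ _) (y' p.2) := by
    rintro ⟨j, l⟩
    let w : I := ⟨(pr a j l : A) * a i, I.mul_mem_left _ (a i).2⟩
    have hjl : (pr a j l : A) ∣ w := dvd_mul_right _ _
    have hij : (pr a i j : A) ∣ w := ⟨(a l : A), by simp [w, pr]; ring⟩
    have hil : (pr a i l : A) ∣ w := ⟨(a j : A), by simp [w, pr]; ring⟩
    obtain ⟨k, hk⟩ := (S.facts hJ (t := w) (b := (a i : A)) hjl rfl).1
      (S.ρ (s := a j) (t := pr a j l) (dvd_mul_right _ _) (y' j) -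
        S.ρ (s := a l) (t := pr a j l) (dvd_mul_left _ _) (y' l)) (by
        rw [map_sub, S.ρ_ρ hJ (s := a j) (t := pr a j l) (dvd_mul_right _ _) hjl,
          S.ρ_ρ hJ (s := a l) (t := pr a j l) (dvd_mul_left _ _) hjl,
          ← S.ρ_ρ hJ (s := a j) (t := pr a i j) (dvd_mul_left _ _) hij,
          ← S.ρ_ρ hJ (s := a l) (t := pr a i l) (dvd_mul_left _ _) hil, hy', hy', map_smul, map_smul,
          S.ρ_ρ hJ (s := a i) (t := pr a i j) (dvd_mul_right _ _) hij,
          S.ρ_ρ hJ (s := a i) (t := pr a i l) (dvd_mul_right _ _) hil, sub_self])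
    exact eventually_smul_eq _ hk
  have e5 : ∀ᶠ m in atTop, (a i : A) ^ m • y' i = (a i : A) ^ m • ((a i : A) ^ M • x) := by
    obtain ⟨k, hk⟩ := (S.facts hJ (t := pr a i i) (b := (a i : A)) (dvd_mul_left _ _) (mul_comm _ _)).1
      (y' i - (a i : A) ^ M • x) (by rw [map_sub, hy', map_smul, sub_self])
    exact eventually_smul_eq _ hk
  obtain ⟨m, h1, h2, h3, h4, h5⟩ :=
    (e1.and ((eventually_all.2 e2).and ((eventually_all.2 e3).and ((eventually_all.2 e4).and e5)))).exists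
  refine ⟨m + M, ⟨((a i : A) ^ m • b', (a i : A) ^ m • c', fun j => (a i : A) ^ m • y' j),
    ?_, fun j => ?_, fun j => ?_, fun j l => ?_⟩, ?_⟩
  · exact (map_smul (Ideal.Quotient.mkₐ A (J.map (algebraMap A C))) _ _).trans
      (h1.trans (map_smul f _ _).symm)
  · exact (map_smul (S.π (a j)) _ _).trans ((h2 j).trans (loc_algebraMap_smul _ _ _).symm)
  · exact (map_smul (S.φ (a j)) _ _).trans ((h3 j).trans (loc_algebraMap_smul _ _ _).symm)
  · exact (map_smul (S.ρ _) _ _).trans ((h4 (j, l)).trans (map_smul (S.ρ _) _ _).symm)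
  · show (a i : A) ^ m • y' i = _
    rw [h5, smul_smul, ← pow_add]

set_option maxHeartbeats 1000000 in
/-- The localization of the equalizer is the lift. -/
theorem exists_locEquiv (hJ : IsNilpotent J) (i : Fin r) :
    ∃ e : Loc (Eq' S a) (a i : A) ≃ₐ[A] S.L (a i), ∀ q, e (algebraMap _ _ q) = toL S a i q := by
  let ψ : Loc (Eq' S a) (a i : A) →ₐ[A] S.L (a i) := IsLocalization.liftAlgHom
    (M := Submonoid.powers (algebraMap A (Eq' S a) (a i : A))) (f := toL S a i) fun y => by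
      obtain ⟨_, n, rfl⟩ := y
      rw [map_pow, AlgHom.commutes]
      exact (S.isUnit hJ (a i) (dvd_refl _)).pow n
  have hψ : ∀ q, ψ (algebraMap _ _ q) = toL S a i q := fun q => IsLocalization.lift_eq _ q
  have hinj : Function.Injective ψ := (injective_iff_map_eq_zero ψ).2 fun z hz => by
    obtain ⟨k, q, hq⟩ := exists_loc_eq (a i : A) z
    obtain ⟨k', hk'⟩ := toL_torsion S a hJ (q := q) (by rw [← hψ, ← hq, map_smul, hz, smul_zero])
    refine loc_smul_cancel (dvd_refl _) (k := k' + k) ?_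
    rw [smul_zero, pow_add, mul_smul, hq, ← loc_algebraMap_smul, hk', map_zero]
  have hsurj : Function.Surjective ψ := fun x => by
    obtain ⟨k, q, hq⟩ := toL_surj S a hJ i x
    obtain ⟨u, hu⟩ := (isUnit_loc_of_dvd (R := Eq' S a) (dvd_refl (a i : A))).pow k
    refine ⟨↑u⁻¹ * algebraMap _ _ q, S.smul_cancel hJ (a i) (dvd_refl _) (k := k) ?_⟩
    rw [← map_smul, ← hq, ← hψ, Algebra.smul_def, map_pow, ← hu, ← mul_assoc, Units.mul_inv, one_mul]
  exact ⟨AlgEquiv.ofBijective ψ ⟨hinj, hsurj⟩, hψ⟩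

end Groth.Agent.H1Lift
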