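import Groth.Agent.H1Lift.Step

/-!
# Lifting along a nilpotent ideal
-/

set_option autoImplicit false
set_option linter.style.haveILetI false

universe u

open TensorProduct

namespace Groth.Agent.H1Lift

variable {A : Type u} [CommRing A]

theorem etale_loc_quotient (J' : Ideal A) (C : Type u) [CommRing C] [Algebra A C] (a : A)
    [Algebra.Etale A (Loc C a)] [Algebra (A ⧸ J') (C ⧸ J'.map (algebraMap A C))]
    [IsScalarTower A (A ⧸ J') (C ⧸ J'.map (algebraMap A C))] :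
    Algebra.Etale (A ⧸ J') (Loc (C ⧸ J'.map (algebraMap A C)) a) := by
  let q := redC J' C a
  let F : (A ⧸ J') ⊗[A] Loc C a →ₐ[A ⧸ J'] Loc (C ⧸ J'.map (algebraMap A C)) a :=
    Algebra.TensorProduct.lift (Algebra.ofId _ _) q fun _ _ => .all _ _
  have hF : ∀ x, F ((1 : A ⧸ J') ⊗ₜ x) = q x := fun x => by simp [F]
  have hmk := TensorProduct.mk_surjective A (Loc C a) (A ⧸ J') Ideal.Quotient.mk_surjective
  refine Algebra.Etale.of_equiv (AlgEquiv.ofBijective F ⟨(injective_iff_map_eq_zero F).2 fun t ht => ?_,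
    fun z => ?_⟩)
  · obtain ⟨x, hx⟩ := hmk t
    have hx' : (1 : A ⧸ J') ⊗ₜ[A] x = t := hx
    rw [← hx', hF] at ht
    rw [← hx', Groth.Agent.CAlgOdd.one_tmul_quot_eq_zero_iff, Ideal.smul_top_eq_map,
      Submodule.restrictScalars_mem]
    exact ((loc_quotient J' C a).2 x).1 ht
  · obtain ⟨x, hx⟩ := (loc_quotient J' C a).1 z
    exact ⟨(1 : A ⧸ J') ⊗ₜ x, (hF x).trans hx⟩

theorem surjMod_of_algEquiv {B X X' : Type u} [CommRing B] [CommRing X] [CommRing X'] [Algebra B X]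
    [Algebra B X'] (e : X ≃ₐ[B] X') {Q : Ideal B} (h : SurjMod Q X) : SurjMod Q X' := by
  intro z
  obtain ⟨r, hr⟩ := h (e.symm z)
  refine ⟨r, ?_⟩
  have := Ideal.mem_map_of_mem e.toAlgHom.toRingHom hr
  rw [Ideal.map_map, AlgHom.toRingHom_eq_coe, AlgHom.comp_algebraMap] at this
  simpa using this

theorem injMod_of_algEquiv {B X X' : Type u} [CommRing B] [CommRing X] [CommRing X'] [Algebra B X]
    [Algebra B X'] (e : X ≃ₐ[B] X') {Q : Ideal B} (h : InjMod Q X) : InjMod Q X' := by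
  intro r hr
  refine h r ?_
  have := Ideal.mem_map_of_mem e.symm.toAlgHom.toRingHom hr
  rw [Ideal.map_map, AlgHom.toRingHom_eq_coe, AlgHom.comp_algebraMap] at this
  rw [← e.symm.commutes r]
  exact this

theorem etale_loc_congr {R X : Type u} [CommRing R] [CommRing X] [Algebra R X] {x y : X} (h : x = y)
    [Algebra.Etale R (Localization.Away x)] : Algebra.Etale R (Localization.Away y) := h ▸ inferInstance

set_option maxHeartbeats 1000000 in
/-- The lifting theorem. -/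
theorem main [IsNoetherianRing A] (I : Ideal A) (n : ℕ) :
    ∀ (J : Ideal A), J ^ n = ⊥ → ∀ (C : Type u) [CommRing C] [Algebra A C],
    (∀ a ∈ I, Algebra.Etale A (Loc C a)) → ∀ (B₀ : Type u) [CommRing B₀] [Algebra A B₀]
    [Algebra (A ⧸ J) B₀] [IsScalarTower A (A ⧸ J) B₀], Algebra.FiniteType A B₀ →
    (∀ a ∈ I, Algebra.Etale (A ⧸ J) (Loc B₀ a)) →
    ∀ [Algebra B₀ (C ⧸ J.map (algebraMap A C))] [IsScalarTower A B₀ (C ⧸ J.map (algebraMap A C))]
    [Algebra.Etale B₀ (C ⧸ J.map (algebraMap A C))],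
    SurjMod (I.map (algebraMap A B₀)) (C ⧸ J.map (algebraMap A C)) →
    InjMod (I.map (algebraMap A B₀)) (C ⧸ J.map (algebraMap A C)) →
    ∃ (B : Type u) (_ : CommRing B) (_ : Algebra A B) (_ : Algebra B C) (_ : IsScalarTower A B C)
      (_ : Algebra B B₀) (_ : IsScalarTower A B B₀), Algebra.FiniteType A B ∧ Algebra.Etale B C ∧
      (∀ a ∈ I, Algebra.Etale A (Loc B a)) ∧ Function.Surjective (algebraMap B B₀) ∧
      RingHom.ker (algebraMap B B₀) = J.map (algebraMap A B) ∧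
      ∀ b : B, algebraMap B₀ (C ⧸ J.map (algebraMap A C)) (algebraMap B B₀ b) =
        Ideal.Quotient.mk (J.map (algebraMap A C)) (algebraMap B C b) := by
  induction n using Nat.strong_induction_on with
  | _ n ih =>
  intro J hJn C _ _ hC B₀ _ _ _ _ hft hB₀ _ _ _ hs₀ hi₀
  rcases Nat.lt_or_ge n 3 with hn | hn
  · refine step I J ?_ C hC B₀ hft hB₀ hs₀ hi₀
    exact le_bot_iff.1 (hJn ▸ Ideal.pow_le_pow_right (by omega))
  -- the reduction modulo `J'`
  set J' := J ^ 2 with hJ'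
  have hJ'J : J' ≤ J := Ideal.pow_le_self two_ne_zero
  let Ā := A ⧸ J'
  let Jb : Ideal Ā := J.map (Ideal.Quotient.mk J')
  let Ib : Ideal Ā := I.map (Ideal.Quotient.mk J')
  let Cb := C ⧸ J'.map (algebraMap A C)
  letI : Algebra Ā Cb := (Ideal.quotientMap (J'.map (algebraMap A C)) (algebraMap A C)
    Ideal.le_comap_map).toAlgebra
  haveI : IsScalarTower A Ā Cb := IsScalarTower.of_algebraMap_eq fun x => rfl
  have hJb : Jb ^ 2 = ⊥ := by
    rw [← Ideal.map_pow, ← hJ', Ideal.map_quotient_self]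
  have hCb : ∀ x ∈ Ib, Algebra.Etale Ā (Loc Cb x) := fun x hx => by
    obtain ⟨a, ha, rfl⟩ := (Ideal.mem_map_iff_of_surjective _ Ideal.Quotient.mk_surjective).1 hx
    haveI := hC a ha
    haveI := etale_loc_quotient J' C a
    exact etale_loc_congr (IsScalarTower.algebraMap_apply A Ā Cb a)
  letI : Algebra Ā B₀ := ((algebraMap (A ⧸ J) B₀).comp (Ideal.Quotient.factor hJ'J)).toAlgebra
  haveI : IsScalarTower A Ā B₀ := IsScalarTower.of_algebraMap_eq fun x =>
    IsScalarTower.algebraMap_apply A (A ⧸ J) B₀ x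
  let φ : (Ā ⧸ Jb) →+* A ⧸ J := Ideal.Quotient.lift Jb (Ideal.Quotient.factor hJ'J) fun x hx => by
    obtain ⟨j, hj, rfl⟩ := (Ideal.mem_map_iff_of_surjective _ Ideal.Quotient.mk_surjective).1 hx
    rw [Ideal.Quotient.factor_mk]
    exact Ideal.Quotient.eq_zero_iff_mem.2 hj
  have hφ : Function.Bijective φ := by
    refine ⟨(injective_iff_map_eq_zero φ).2 fun z hz => ?_, fun z => ?_⟩
    · obtain ⟨z, rfl⟩ := Ideal.Quotient.mk_surjective z
      obtain ⟨x, rfl⟩ := Ideal.Quotient.mk_surjective z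
      have hxJ : x ∈ J := Ideal.Quotient.eq_zero_iff_mem.1 hz
      exact Ideal.Quotient.eq_zero_iff_mem.2 (Ideal.mem_map_of_mem _ hxJ)
    · obtain ⟨x, rfl⟩ := Ideal.Quotient.mk_surjective z
      exact ⟨Ideal.Quotient.mk Jb (Ideal.Quotient.mk J' x), rfl⟩
  letI : Algebra (Ā ⧸ Jb) B₀ := ((algebraMap (A ⧸ J) B₀).comp φ).toAlgebra
  letI : Algebra (Ā ⧸ Jb) (A ⧸ J) := φ.toAlgebra
  haveI : IsScalarTower (Ā ⧸ Jb) (A ⧸ J) B₀ := IsScalarTower.of_algebraMap_eq fun _ => rfl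
  haveI : IsScalarTower Ā (Ā ⧸ Jb) B₀ :=
    @IsScalarTower.of_algebraMap_eq Ā (Ā ⧸ Jb) B₀ _ _ _ _ _ _ fun x => rfl
  haveI : Algebra.Etale (Ā ⧸ Jb) (A ⧸ J) := RingHom.etale_algebraMap.1 (RingHom.Etale.of_bijective hφ)
  have hB₀b : ∀ x ∈ Ib, Algebra.Etale (Ā ⧸ Jb) (Loc B₀ x) := fun x hx => by
    obtain ⟨a, ha, rfl⟩ := (Ideal.mem_map_iff_of_surjective _ Ideal.Quotient.mk_surjective).1 hx
    haveI := hB₀ a ha
    haveI : IsScalarTower (Ā ⧸ Jb) (A ⧸ J) (Loc B₀ a) := IsScalarTower.of_algebraMap_eq fun z => rfl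
    haveI : Algebra.Etale (Ā ⧸ Jb) (Loc B₀ a) := Algebra.Etale.comp (Ā ⧸ Jb) (A ⧸ J) _
    exact etale_loc_congr (IsScalarTower.algebraMap_apply A Ā B₀ a)
  -- `C / J C` as a quotient of `Cb`
  have hmapJ : Jb.map (algebraMap Ā Cb) = J.map (algebraMap A Cb) := by
    rw [Ideal.map_map]; rfl
  let e₀ : (C ⧸ J.map (algebraMap A C)) →ₐ[A] (Cb ⧸ Jb.map (algebraMap Ā Cb)) := Ideal.Quotient.liftₐ _
    ((Ideal.Quotient.mkₐ A (Jb.map (algebraMap Ā Cb))).comp (Ideal.Quotient.mkₐ A (J'.map (algebraMap A C))))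
    fun x hx => by
      show Ideal.Quotient.mk (Jb.map (algebraMap Ā Cb)) (Ideal.Quotient.mk _ x) = 0
      rw [Ideal.Quotient.eq_zero_iff_mem, hmapJ, IsScalarTower.algebraMap_eq A C Cb, ← Ideal.map_map]
      exact Ideal.mem_map_of_mem _ hx
  have he₀ : Function.Bijective e₀ := by
    refine ⟨(injective_iff_map_eq_zero e₀).2 fun z hz => ?_, fun z => ?_⟩
    · obtain ⟨x, rfl⟩ := Ideal.Quotient.mk_surjective z
      have hz' : Ideal.Quotient.mk (J'.map (algebraMap A C)) x ∈ Jb.map (algebraMap Ā Cb) :=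
        Ideal.Quotient.eq_zero_iff_mem.1 hz
      rw [hmapJ, IsScalarTower.algebraMap_eq A C Cb, ← Ideal.map_map, Ideal.Quotient.algebraMap_eq,
        Ideal.mem_quotient_iff_mem (Ideal.map_mono hJ'J)] at hz'
      exact Ideal.Quotient.eq_zero_iff_mem.2 hz'
    · obtain ⟨z, rfl⟩ := Ideal.Quotient.mk_surjective z
      obtain ⟨x, rfl⟩ := Ideal.Quotient.mk_surjective z
      exact ⟨Ideal.Quotient.mk _ x, rfl⟩
  letI : Algebra B₀ (Cb ⧸ Jb.map (algebraMap Ā Cb)) := (e₀.toRingHom.comp (algebraMap B₀ (C ⧸ J.map (algebraMap A C)))).toAlgebra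
  haveI : IsScalarTower A B₀ (Cb ⧸ Jb.map (algebraMap Ā Cb)) := IsScalarTower.of_algebraMap_eq fun x => by
    show algebraMap A (Cb ⧸ Jb.map (algebraMap Ā Cb)) x = e₀ (algebraMap B₀ (C ⧸ J.map (algebraMap A C)) (algebraMap A B₀ x))
    rw [← IsScalarTower.algebraMap_apply, AlgHom.commutes]
  haveI := @IsScalarTower.of_algebraMap_eq Ā B₀ (Cb ⧸ Jb.map (algebraMap Ā Cb)) _ _ _ _ _ _ fun z => by
    obtain ⟨x, rfl⟩ := Ideal.Quotient.mk_surjective z
    show algebraMap Ā (Cb ⧸ Jb.map (algebraMap Ā Cb)) (algebraMap A Ā x) = algebraMap B₀ (Cb ⧸ Jb.map (algebraMap Ā Cb)) (algebraMap Ā B₀ (algebraMap A Ā x))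
    rw [← IsScalarTower.algebraMap_apply A Ā B₀, ← IsScalarTower.algebraMap_apply A Ā (Cb ⧸ Jb.map (algebraMap Ā Cb)),
      ← IsScalarTower.algebraMap_apply A B₀ (Cb ⧸ Jb.map (algebraMap Ā Cb))]
  let eB : (C ⧸ J.map (algebraMap A C)) ≃ₐ[B₀] (Cb ⧸ Jb.map (algebraMap Ā Cb)) := AlgEquiv.ofBijective (R := B₀)
    { e₀.toRingHom with commutes' := fun _ => rfl } he₀
  haveI : Algebra.Etale B₀ (Cb ⧸ Jb.map (algebraMap Ā Cb)) := Algebra.Etale.of_equiv eB
  have hIb : Ib.map (algebraMap Ā B₀) = I.map (algebraMap A B₀) := by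
    rw [Ideal.map_map]
    exact congrArg (fun g => Ideal.map g I) (IsScalarTower.algebraMap_eq A Ā B₀).symm
  haveI : Algebra.FiniteType A B₀ := hft
  obtain ⟨B₁, _, _, _, _, _, _, hft₁, hB₁C, hB₁loc, hsurj₁, hker₁, hcompat₁⟩ :=
    step Ib Jb hJb Cb hCb B₀ (Algebra.FiniteType.of_restrictScalars_finiteType A Ā B₀) hB₀b
      (hIb.symm ▸ surjMod_of_algEquiv eB hs₀) (hIb.symm ▸ injMod_of_algEquiv eB hi₀)
  -- lift `B₁`
  letI : Algebra A B₁ := ((algebraMap Ā B₁).comp (Ideal.Quotient.mk J')).toAlgebra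
  haveI : IsScalarTower A Ā B₁ := IsScalarTower.of_algebraMap_eq fun _ => rfl
  haveI : IsScalarTower A B₁ Cb := IsScalarTower.of_algebraMap_eq fun x => by
    rw [IsScalarTower.algebraMap_apply A Ā B₁, ← IsScalarTower.algebraMap_apply Ā B₁ Cb,
      ← IsScalarTower.algebraMap_apply]
  haveI : IsScalarTower A B₁ B₀ := IsScalarTower.of_algebraMap_eq fun x => by
    rw [IsScalarTower.algebraMap_apply A Ā B₁, ← IsScalarTower.algebraMap_apply Ā B₁ B₀,
      ← IsScalarTower.algebraMap_apply]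
  haveI : Algebra.FiniteType A Ā := Algebra.FiniteType.of_surjective (Algebra.ofId A Ā)
    Ideal.Quotient.mk_surjective
  have hft₁' : Algebra.FiniteType A B₁ := Algebra.FiniteType.trans ‹_› hft₁
  have hB₁loc' : ∀ a ∈ I, Algebra.Etale Ā (Loc B₁ a) := fun a ha => by
    haveI := hB₁loc _ (Ideal.mem_map_of_mem (Ideal.Quotient.mk J') ha)
    exact etale_loc_congr (IsScalarTower.algebraMap_apply A Ā B₁ a).symm
  haveI : IsScalarTower B₁ B₀ (Cb ⧸ Jb.map (algebraMap Ā Cb)) := IsScalarTower.of_algebraMap_eq fun b => (hcompat₁ b).symm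
  have hJ₁ : Jb.map (algebraMap Ā B₁) = J.map (algebraMap A B₁) := by rw [Ideal.map_map]; rfl
  obtain ⟨hsP, hiP⟩ := surjMod_injMod (X := Cb) (IsScalarTower.toAlgHom B₁ Cb (Cb ⧸ Jb.map (algebraMap Ā Cb)))
    Ideal.Quotient.mk_surjective (K := RingHom.ker (algebraMap B₁ B₀)) (fun x hx => by
      rw [hker₁, Ideal.map_map, ← IsScalarTower.algebraMap_eq]
      exact Ideal.Quotient.eq_zero_iff_mem.1 hx) rfl hsurj₁ (I.map (algebraMap A B₁))
      (by rw [Ideal.map_map, ← IsScalarTower.algebraMap_eq])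
      (surjMod_of_algEquiv eB hs₀) (injMod_of_algEquiv eB hi₀)
  have hK₁ : RingHom.ker (algebraMap B₁ B₀) ^ 2 = ⊥ := by
    rw [hker₁, ← Ideal.map_pow, hJb, Ideal.map_bot]
  have hJ'n : J' ^ (n - 1) = ⊥ := by
    rw [hJ', ← pow_mul]
    exact le_bot_iff.1 (hJn ▸ Ideal.pow_le_pow_right (by omega))
  obtain ⟨B, _, _, _, _, _, _, hftB, hBC, hBloc, hsurj, hker, hcompat⟩ :=
    ih (n - 1) (by omega) J' hJ'n C hC B₁ hft₁' hB₁loc' (surjMod_of_sq hK₁ hsP)
      (injMod_of_pow_le (2 * 1) (by simpa using pow_two_sup_le (I := I.map (algebraMap A B₁)) hK₁ 1) hsP hiP)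
  letI : Algebra B B₀ := ((algebraMap B₁ B₀).comp (algebraMap B B₁)).toAlgebra
  haveI : IsScalarTower A B B₀ := IsScalarTower.of_algebraMap_eq fun x => by
    show algebraMap A B₀ x = algebraMap B₁ B₀ (algebraMap B B₁ (algebraMap A B x))
    rw [← IsScalarTower.algebraMap_apply A B B₁, ← IsScalarTower.algebraMap_apply A B₁ B₀]
  haveI : IsScalarTower B B₁ B₀ := IsScalarTower.of_algebraMap_eq fun _ => rfl
  refine ⟨B, inferInstance, inferInstance, inferInstance, inferInstance, inferInstance, inferInstance,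
    hftB, hBC, hBloc, hsurj₁.comp hsurj, ?_, fun b => ?_⟩
  · apply le_antisymm
    · intro q hq
      have h1 : algebraMap B B₁ q ∈ J.map (algebraMap A B₁) := by
        rw [← hJ₁, ← hker₁]; exact hq
      rw [IsScalarTower.algebraMap_eq A B B₁, ← Ideal.map_map] at h1
      obtain ⟨y, hy, e⟩ := (Ideal.mem_map_iff_of_surjective _ hsurj).1 h1
      have h2 : q - y ∈ J'.map (algebraMap A B) := by rw [← hker, RingHom.mem_ker, map_sub, e, sub_self]
      have := add_mem (Ideal.map_mono hJ'J h2) hy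
      rwa [sub_add_cancel] at this
    · refine Ideal.map_le_iff_le_comap.2 fun j hj => ?_
      rw [Ideal.mem_comap, RingHom.mem_ker, ← IsScalarTower.algebraMap_apply,
        IsScalarTower.algebraMap_apply A (A ⧸ J) B₀, Ideal.Quotient.algebraMap_eq,
        Ideal.Quotient.eq_zero_iff_mem.2 hj, map_zero]
  · apply he₀.1
    show algebraMap B₀ (Cb ⧸ Jb.map (algebraMap Ā Cb)) (algebraMap B₁ B₀ (algebraMap B B₁ b)) = _
    rw [hcompat₁, hcompat b]
    rfl

end Groth.Agent.H1Lift
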