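import Groth.Agent.H1Lift.Main

/-!
# Étaleness of `C` over the lift
-/

set_option autoImplicit false
set_option linter.style.haveILetI false

universe u

open TensorProduct

namespace Groth.Agent.H1Lift

theorem exists_etale_lift_sq {B T X : Type u} [CommRing B] [CommRing T] [CommRing X] [Algebra B T]
    [Algebra T X] [Algebra B X] [IsScalarTower B T X] [Algebra.Etale T X]
    (hT : Function.Surjective (algebraMap B T)) :
    ∃ (C' : Type u) (_ : CommRing C') (_ : Algebra B C') (π : C' →ₐ[B] X),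
      Algebra.Etale B C' ∧ Function.Surjective π ∧
        ∀ x, π x = 0 → x ∈ (RingHom.ker (algebraMap B T)).map (algebraMap B C') := by
  let K := RingHom.ker (algebraMap B T)
  let e₀ : (B ⧸ K) →ₐ[B] T := Ideal.Quotient.liftₐ K (Algebra.ofId B T) fun _ h => h
  have he₀ : Function.Bijective e₀ := by
    refine ⟨(injective_iff_map_eq_zero e₀).2 fun z hz => ?_, fun t => ?_⟩
    · obtain ⟨b, rfl⟩ := Ideal.Quotient.mk_surjective z
      exact Ideal.Quotient.eq_zero_iff_mem.2 hz
    · obtain ⟨b, hb⟩ := hT t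
      exact ⟨Ideal.Quotient.mk K b, hb⟩
  letI : Algebra (B ⧸ K) T := e₀.toRingHom.toAlgebra
  letI : Algebra (B ⧸ K) X := ((algebraMap T X).comp e₀.toRingHom).toAlgebra
  haveI : IsScalarTower (B ⧸ K) T X := IsScalarTower.of_algebraMap_eq fun _ => rfl
  haveI : IsScalarTower B (B ⧸ K) X := IsScalarTower.of_algebraMap_eq fun b => by
    show algebraMap B X b = algebraMap T X (e₀ (algebraMap B (B ⧸ K) b))
    rw [AlgHom.commutes, ← IsScalarTower.algebraMap_apply]
  haveI : Algebra.Etale (B ⧸ K) T := RingHom.etale_algebraMap.1 (RingHom.Etale.of_bijective he₀)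
  haveI : Algebra.Etale (B ⧸ K) X := Algebra.Etale.comp (B ⧸ K) T X
  obtain ⟨C', _, _, hC', ⟨e⟩⟩ := Groth.Agent.Hensel.exists_etale_algebra_lift (A := B) (T := B ⧸ K)
    (C := X) Ideal.Quotient.mk_surjective
  refine ⟨C', inferInstance, inferInstance,
    (e.toAlgHom.restrictScalars B).comp Algebra.TensorProduct.includeRight, hC', fun z => ?_, fun x hx => ?_⟩
  · obtain ⟨x, hx⟩ := TensorProduct.mk_surjective B C' (B ⧸ K) Ideal.Quotient.mk_surjective (e.symm z)
    exact ⟨x, by show e ((1 : B ⧸ K) ⊗ₜ x) = z; rw [show (1 : B ⧸ K) ⊗ₜ[B] x = e.symm z from hx, e.apply_symm_apply]⟩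
  · have hx' : e ((1 : B ⧸ K) ⊗ₜ x) = 0 := hx
    rwa [map_eq_zero_iff e e.injective, Groth.Agent.CAlgOdd.one_tmul_quot_eq_zero_iff,
      Ideal.smul_top_eq_map, Submodule.restrictScalars_mem] at hx'

variable {A : Type u} [CommRing A]

/-- The hypotheses of the square zero step, transported to `B`. -/
theorem surjMod_injMod {B T X X₀ : Type u} [CommRing B] [CommRing T] [CommRing X] [CommRing X₀]
    [Algebra B T] [Algebra B X] [Algebra T X₀] [Algebra B X₀] [IsScalarTower B T X₀]
    {P : Ideal T} (π : X →ₐ[B] X₀) (hπ : Function.Surjective π) {K : Ideal B}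
    (hker : ∀ x, π x = 0 → x ∈ K.map (algebraMap B X)) (hK : K = RingHom.ker (algebraMap B T))
    (hT : Function.Surjective (algebraMap B T)) (IB : Ideal B) (hIB : IB.map (algebraMap B T) = P)
    (hs : SurjMod P X₀) (hi : InjMod P X₀) : SurjMod (IB ⊔ K) X ∧ InjMod (IB ⊔ K) X := by
  have hmap : (IB.map (algebraMap B X)).map π.toRingHom = P.map (algebraMap T X₀) := by
    rw [Ideal.map_map, AlgHom.toRingHom_eq_coe, AlgHom.comp_algebraMap, IsScalarTower.algebraMap_eq B T X₀,
      ← Ideal.map_map, hIB]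
  constructor
  · intro x
    obtain ⟨t, ht⟩ := hs (π x)
    obtain ⟨b, rfl⟩ := hT t
    rw [← hmap, ← IsScalarTower.algebraMap_apply] at ht
    obtain ⟨y, hy, e⟩ := (Ideal.mem_map_iff_of_surjective π.toRingHom hπ).1 ht
    refine ⟨b, ?_⟩
    have h0 : x - algebraMap B X b - y ∈ K.map (algebraMap B X) := hker _ (by
      rw [map_sub, map_sub, AlgHom.commutes]
      exact sub_eq_zero.2 e.symm)
    have := add_mem (Ideal.mem_sup_right (S := IB.map (algebraMap B X)) h0) (Ideal.mem_sup_left hy)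
    rwa [sub_add_cancel, ← Ideal.map_sup] at this
  · intro b hb
    have h1 := Ideal.mem_map_of_mem π.toRingHom hb
    have hKbot : (K.map (algebraMap B X)).map π.toRingHom = ⊥ := by
      rw [Ideal.map_map, AlgHom.toRingHom_eq_coe, AlgHom.comp_algebraMap, IsScalarTower.algebraMap_eq B T X₀,
        ← Ideal.map_map, hK,
        (Ideal.map_eq_bot_iff_le_ker (algebraMap B T)).2 le_rfl, Ideal.map_bot]
    rw [Ideal.map_sup, Ideal.map_sup, hmap, hKbot, sup_bot_eq] at h1
    have h2 : algebraMap B T b ∈ P := hi _ (by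
      rw [← IsScalarTower.algebraMap_apply, ← π.commutes b]; exact h1)
    rw [← hIB] at h2
    obtain ⟨y, hy, e⟩ := (Ideal.mem_map_iff_of_surjective _ hT).1 h2
    have h3 : b - y ∈ K := by rw [hK, RingHom.mem_ker, map_sub, e, sub_self]
    have := add_mem (Ideal.mem_sup_right (S := IB) h3) (Ideal.mem_sup_left hy)
    rwa [sub_add_cancel] at this

theorem exists_pow_smul_map {I : Ideal A} {r : ℕ} (c : Fin r → A) (hc : Ideal.span (Set.range c) = I)
    {B : Type u} [CommRing B] [Algebra A B] (k : Fin r → ℕ) :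
    ∃ N, (I.map (algebraMap A B)) ^ N ≤
      Ideal.span (Set.range fun i => algebraMap A B (c i) ^ k i) := by
  refine Ideal.exists_pow_le_of_le_radical_of_fg ?_
    ((show I.FG from hc ▸ Submodule.fg_span (Set.finite_range _)).map _)
  conv_lhs => rw [← hc, Ideal.map_span]
  refine Ideal.span_le.2 ?_
  rintro _ ⟨_, ⟨i, rfl⟩, rfl⟩
  exact ⟨k i, Ideal.subset_span ⟨i, rfl⟩⟩

theorem mem_map_of_loc {J : Ideal A} {B : Type u} [CommRing B] [Algebra A B] {s : A} {q : B}
    (h : algebraMap B (Loc B s) q ∈ J.map (algebraMap A (Loc B s))) :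
    ∃ m : ℕ, s ^ m • q ∈ J.map (algebraMap A B) := by
  have h2 : redC J B s (algebraMap B _ q) = 0 := ((loc_quotient J B s).2 _).2 h
  rw [redC, locMap_algebraMap] at h2
  obtain ⟨m, hm⟩ := exists_pow_smul_eq_zero _ h2
  rw [← map_smul, Ideal.Quotient.mkₐ_eq_mk, Ideal.Quotient.eq_zero_iff_mem] at hm
  exact ⟨m, hm⟩

/-- The algebra of compatible systems with the properties used below. -/
theorem exists_pkg {I J : Ideal A} (hJ : J ^ 2 = ⊥) {C : Type u} [CommRing C] [Algebra A C]
    (hC : ∀ a ∈ I, Algebra.Etale A (Loc C a)) {B₀ : Type u} [CommRing B₀] [Algebra A B₀]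
    [Algebra (A ⧸ J) B₀] [IsScalarTower A (A ⧸ J) B₀] (hB₀ : ∀ a ∈ I, Algebra.Etale (A ⧸ J) (Loc B₀ a))
    [Algebra B₀ (C ⧸ J.map (algebraMap A C))] [IsScalarTower A B₀ (C ⧸ J.map (algebraMap A C))]
    [Module.Flat B₀ (C ⧸ J.map (algebraMap A C))]
    (hs₀ : SurjMod (I.map (algebraMap A B₀)) (C ⧸ J.map (algebraMap A C)))
    (hi₀ : InjMod (I.map (algebraMap A B₀)) (C ⧸ J.map (algebraMap A C)))
    {r : ℕ} (c : Fin r → A) (hc : Ideal.span (Set.range c) = I) :
    ∃ (B : Type u) (_ : CommRing B) (_ : Algebra A B) (_ : Algebra B C) (_ : IsScalarTower A B C)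
      (_ : Algebra B B₀) (_ : IsScalarTower A B B₀),
      Function.Surjective (algebraMap B B₀) ∧
      (∀ b : B, algebraMap B₀ (C ⧸ J.map (algebraMap A C)) (algebraMap B B₀ b) =
        Ideal.Quotient.mk (J.map (algebraMap A C)) (algebraMap B C b)) ∧
      RingHom.ker (algebraMap B B₀) ^ 2 = ⊥ ∧
      (∀ i, Algebra.Etale A (Loc B (c i))) ∧
      (∀ i, ∀ q ∈ RingHom.ker (algebraMap B B₀),
        algebraMap B (Loc B (c i)) q ∈ J.map (algebraMap A (Loc B (c i)))) ∧
      ∀ (q : B) (n : Fin r → ℕ), algebraMap B B₀ q = 0 → algebraMap B C q = 0 →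
        (∀ i, c i ^ n i • q = 0) → q = 0 := by
  have hnil : IsNilpotent J := ⟨2, hJ.trans Ideal.zero_eq_bot.symm⟩
  let f : B₀ →ₐ[A] C ⧸ J.map (algebraMap A C) := IsScalarTower.toAlgHom A B₀ _
  obtain ⟨S⟩ := exists_sys (I := I) hnil hB₀ f
  let a : Fin r → I := fun i => ⟨c i, hc ▸ Ideal.subset_span ⟨i, rfl⟩⟩
  refine ⟨Eq' S a, inferInstance, inferInstance, (toC S a).toRingHom.toAlgebra,
    @IsScalarTower.of_algebraMap_eq A (Eq' S a) C _ _ _ _ (toC S a).toRingHom.toAlgebra _
      (fun x => ((toC S a).commutes x).symm),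
    (toB S a).toRingHom.toAlgebra,
    @IsScalarTower.of_algebraMap_eq A (Eq' S a) B₀ _ _ _ _ (toB S a).toRingHom.toAlgebra _
      (fun x => ((toB S a).commutes x).symm),
    fun b => ?_, fun q => (mk_toC S a q).symm, ker_sq S a hJ, fun i => ?_, fun i q hq => ?_,
    fun q n h1 h2 h3 => ?_⟩
  · obtain ⟨cC, x, h1, h2, h3, h4⟩ := exists_lifting hJ hC S a hc (fun _ => rfl) hs₀ hi₀ b
    exact ⟨⟨(b, cC, x), h1, h2, h3, fun i j => h4 i j (pr a i j) rfl _ _⟩, rfl⟩
  · obtain ⟨e, -⟩ := exists_locEquiv S a hnil i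
    exact Algebra.Etale.of_equiv e.symm
  · obtain ⟨e, he⟩ := exists_locEquiv S a hnil i
    have h0 := Ideal.mem_map_of_mem e.symm.toAlgHom.toRingHom (toL_mem S a (q := q) hq i)
    rw [Ideal.map_map, AlgHom.toRingHom_eq_coe, AlgHom.comp_algebraMap] at h0
    rw [← e.symm_apply_apply (algebraMap (Eq' S a) (Loc (Eq' S a) (c i)) q)]
    exact (congrArg e.symm (he q)).symm ▸ h0
  · refine eq_ext S a (h1.trans (map_zero (toB S a)).symm) (h2.trans (map_zero (toC S a)).symm) fun i => ?_
    refine S.smul_cancel hnil (a i) (dvd_refl _) (k := n i) ?_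
    rw [← map_smul, h3 i, map_zero, smul_zero]

theorem loc_exists_preimage {R R' : Type u} [CommRing R] [CommRing R'] [Algebra A R] [Algebra A R']
    (h : R →ₐ[A] R') (hsurj : Function.Surjective h) (c : A) (z : Loc R' c) :
    ∃ w, locMap h (dvd_refl c) w = z := by
  obtain ⟨k, y, hy⟩ := exists_loc_eq c z
  obtain ⟨y', rfl⟩ := hsurj y
  obtain ⟨u, hu⟩ := (isUnit_loc_of_dvd (R := R) (dvd_refl c)).pow k
  refine ⟨↑u⁻¹ * algebraMap R _ y', loc_smul_cancel (dvd_refl c) (k := k) ?_⟩
  rw [hy, ← map_smul, Algebra.smul_def, map_pow, ← hu, ← mul_assoc, Units.mul_inv, one_mul,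
    locMap_algebraMap]

/-- A surjection which is an isomorphism modulo `J` after inverting `c` has `c`-torsion kernel. -/
theorem torsion_of_loc {J : Ideal A} (hnil : IsNilpotent J) {R R' : Type u} [CommRing R] [CommRing R']
    [Algebra A R] [Algebra A R'] {c : A} [Algebra.Etale A (Loc R c)] [Algebra.Etale A (Loc R' c)]
    (h : R →ₐ[A] R') (hsurj : Function.Surjective h)
    (hJ : ∀ y, h y ∈ J.map (algebraMap A R') → algebraMap R (Loc R c) y ∈ J.map (algebraMap A (Loc R c)))
    {x : R} (hx : h x = 0) : ∃ n : ℕ, c ^ n • x = 0 := by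
  letI : Algebra (Loc R c) (Loc R' c) := (locMap h (dvd_refl c)).toRingHom.toAlgebra
  have hal : ∀ w, algebraMap (Loc R c) (Loc R' c) w = locMap h (dvd_refl c) w := fun _ => rfl
  haveI : IsScalarTower A (Loc R c) (Loc R' c) :=
    IsScalarTower.of_algebraMap_eq fun y => ((locMap h (dvd_refl c)).commutes y).symm
  haveI : Algebra.Etale (Loc R c) (Loc R' c) := Algebra.Etale.of_restrictScalars A (Loc R c) (Loc R' c)
  have hmap : (J.map (algebraMap A (Loc R c))).map (algebraMap (Loc R c) (Loc R' c)) =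
      J.map (algebraMap A (Loc R' c)) := by
    rw [Ideal.map_map, ← IsScalarTower.algebraMap_eq]
  have hb : Function.Bijective (algebraMap (Loc R c) (Loc R' c)) := by
    refine bijective_of_flat (Q := J.map (algebraMap A (Loc R c))) (isNilpotent_map hnil)
      (fun z => ?_) (fun z hz => ?_)
    · obtain ⟨w, hw⟩ := loc_exists_preimage h hsurj c z
      exact ⟨w, by rw [hal, hw, sub_self]; exact zero_mem _⟩
    · rw [hmap, hal] at hz
      obtain ⟨k, y, hy⟩ := exists_loc_eq c z
      have h0 : algebraMap R' (Loc R' c) (h y) ∈ J.map (algebraMap A (Loc R' c)) := by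
        rw [← locMap_algebraMap h (dvd_refl c) y, ← hy, map_smul, Algebra.smul_def]
        exact Ideal.mul_mem_left _ _ hz
      obtain ⟨m, hm⟩ := mem_map_of_loc h0
      rw [← map_smul] at hm
      have h2 := hJ _ hm
      rw [loc_algebraMap_smul, ← hy, smul_smul, Algebra.smul_def, map_mul, map_pow, map_pow] at h2
      exact (Ideal.unit_mul_mem_iff_mem _
        (((isUnit_loc_of_dvd (dvd_refl c)).pow m).mul ((isUnit_loc_of_dvd (dvd_refl c)).pow k))).1 h2
  refine exists_pow_smul_eq_zero c (hb.1 ?_)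
  rw [map_zero, hal, locMap_algebraMap, hx, map_zero]

variable {B B₀ C : Type u} [CommRing B] [Algebra A B] [CommRing B₀] [Algebra A B₀] [CommRing C] [Algebra A C]
  [Algebra B B₀] [IsScalarTower A B B₀] [Algebra B C] [IsScalarTower A B C]

/-- Torsion of the kernel of the comparison map. -/
theorem torsion_of_ker {J : Ideal A} (hnil : IsNilpotent J) {c : A} [Algebra.Etale A (Loc B c)]
    [Algebra.Etale A (Loc C c)] {C' : Type u} [CommRing C'] [Algebra A C'] [Algebra B C']
    [IsScalarTower A B C'] [Algebra.Etale B C'] (g : C' →ₐ[B] C) (hgsurj : Function.Surjective g)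
    (hKloc : ∀ q ∈ RingHom.ker (algebraMap B B₀),
      algebraMap B (Loc B c) q ∈ J.map (algebraMap A (Loc B c)))
    (hgJ : ∀ y, g y ∈ J.map (algebraMap A C) →
      y ∈ (RingHom.ker (algebraMap B B₀)).map (algebraMap B C'))
    {x : C'} (hx : g x = 0) : ∃ n : ℕ, c ^ n • x = 0 := by
  letI : Algebra (Loc B c) (Loc C' c) :=
    (locMap (IsScalarTower.toAlgHom A B C') (dvd_refl c)).toRingHom.toAlgebra
  haveI : IsScalarTower A (Loc B c) (Loc C' c) := IsScalarTower.of_algebraMap_eq fun y =>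
    ((locMap (IsScalarTower.toAlgHom A B C') (dvd_refl c)).commutes y).symm
  haveI : IsScalarTower B (Loc B c) (Loc C' c) := IsScalarTower.of_algebraMap_eq fun y => by
    show _ = locMap (IsScalarTower.toAlgHom A B C') (dvd_refl c) (algebraMap B (Loc B c) y)
    rw [locMap_algebraMap, IsScalarTower.algebraMap_apply B C' (Loc C' c)]
    rfl
  haveI : Algebra.Etale B (Loc B c) := Algebra.Etale.of_isLocalizationAway (algebraMap A B c)
  haveI : Algebra.Etale C' (Loc C' c) := Algebra.Etale.of_isLocalizationAway (algebraMap A C' c)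
  haveI : Algebra.Etale B (Loc C' c) := Algebra.Etale.comp B C' _
  haveI : Algebra.Etale (Loc B c) (Loc C' c) :=
    Algebra.Etale.of_restrictScalars B (Loc B c) (Loc C' c)
  haveI : Algebra.Etale A (Loc C' c) := Algebra.Etale.comp A (Loc B c) _
  refine torsion_of_loc hnil (g.restrictScalars A) hgsurj (fun y hy => ?_) hx
  have h1 : (RingHom.ker (algebraMap B B₀)).map (algebraMap B (Loc C' c)) ≤
      J.map (algebraMap A (Loc C' c)) := by
    refine Ideal.map_le_iff_le_comap.2 fun q hq => ?_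
    have h2 := Ideal.mem_map_of_mem (algebraMap (Loc B c) (Loc C' c)) (hKloc q hq)
    rw [Ideal.map_map, ← IsScalarTower.algebraMap_eq, ← IsScalarTower.algebraMap_apply] at h2
    exact h2
  have h3 := Ideal.mem_map_of_mem (algebraMap C' (Loc C' c)) (hgJ y hy)
  rw [Ideal.map_map, ← IsScalarTower.algebraMap_eq] at h3
  exact h1 h3

/-- Finite type of the lift. -/
theorem finiteType_of_ker {J : Ideal A} (hnil : IsNilpotent J) (hft : Algebra.FiniteType A B₀)
    (hsurjB : Function.Surjective (algebraMap B B₀))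
    (hker : RingHom.ker (algebraMap B B₀) = J.map (algebraMap A B)) : Algebra.FiniteType A B := by
  classical
  obtain ⟨s, hs⟩ := hft.out
  choose l hl using hsurjB
  refine ⟨s.image l, ?_⟩
  let T := Algebra.adjoin A ((s.image l : Finset B) : Set B)
  have hT : ∀ b, ∃ t ∈ T, algebraMap B B₀ t = b := fun b => by
    have hmap : T.map (IsScalarTower.toAlgHom A B B₀) = ⊤ := by
      rw [eq_top_iff, ← hs, Algebra.adjoin_le_iff]
      intro x hx
      exact ⟨l x, Algebra.subset_adjoin (Finset.mem_image_of_mem _ hx), hl x⟩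
    have hb : b ∈ T.map (IsScalarTower.toAlgHom A B B₀) := by rw [hmap]; exact Algebra.mem_top
    exact hb
  have := eq_top_of_le_sup_smul hnil (Subalgebra.toSubmodule T) (fun x _ => by
    obtain ⟨t, ht, e⟩ := hT (algebraMap B B₀ x)
    rw [Ideal.smul_top_eq_map]
    refine Submodule.mem_sup.2 ⟨t, ht, x - t, ?_, add_sub_cancel _ _⟩
    rw [Submodule.restrictScalars_mem, ← hker, RingHom.mem_ker, map_sub, e, sub_self])
  exact Algebra.toSubmodule_eq_top.1 this

set_option maxHeartbeats 1000000 in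
/-- The square zero step. -/
theorem step [IsNoetherianRing A] (I J : Ideal A) (hJ : J ^ 2 = ⊥) (C : Type u) [CommRing C] [Algebra A C]
    (hC : ∀ a ∈ I, Algebra.Etale A (Loc C a)) (B₀ : Type u) [CommRing B₀] [Algebra A B₀]
    [Algebra (A ⧸ J) B₀] [IsScalarTower A (A ⧸ J) B₀] (hft : Algebra.FiniteType A B₀)
    (hB₀ : ∀ a ∈ I, Algebra.Etale (A ⧸ J) (Loc B₀ a))
    [Algebra B₀ (C ⧸ J.map (algebraMap A C))] [IsScalarTower A B₀ (C ⧸ J.map (algebraMap A C))]
    [Algebra.Etale B₀ (C ⧸ J.map (algebraMap A C))]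
    (hs₀ : SurjMod (I.map (algebraMap A B₀)) (C ⧸ J.map (algebraMap A C)))
    (hi₀ : InjMod (I.map (algebraMap A B₀)) (C ⧸ J.map (algebraMap A C))) :
    ∃ (B : Type u) (_ : CommRing B) (_ : Algebra A B) (_ : Algebra B C) (_ : IsScalarTower A B C)
      (_ : Algebra B B₀) (_ : IsScalarTower A B B₀), Algebra.FiniteType A B ∧ Algebra.Etale B C ∧
      (∀ a ∈ I, Algebra.Etale A (Loc B a)) ∧ Function.Surjective (algebraMap B B₀) ∧
      RingHom.ker (algebraMap B B₀) = J.map (algebraMap A B) ∧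
      ∀ b : B, algebraMap B₀ (C ⧸ J.map (algebraMap A C)) (algebraMap B B₀ b) =
        Ideal.Quotient.mk (J.map (algebraMap A C)) (algebraMap B C b) := by
  have hnil : IsNilpotent J := ⟨2, hJ.trans Ideal.zero_eq_bot.symm⟩
  obtain ⟨r, c, hc⟩ := Submodule.fg_iff_exists_fin_generating_family.1 (IsNoetherian.noetherian I)
  obtain ⟨B, _, _, _, _, _, _, hsurjB, hcompat, hK0, hetB, hKloc, hzero⟩ :=
    exists_pkg hJ hC hB₀ hs₀ hi₀ c hc
  haveI : IsScalarTower B B₀ (C ⧸ J.map (algebraMap A C)) :=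
    IsScalarTower.of_algebraMap_eq fun q => (hcompat q).symm
  set K := RingHom.ker (algebraMap B B₀) with hKdef
  have hK : K ^ 2 = ⊥ := hK0
  have hJK : J.map (algebraMap A B) ≤ K := Ideal.map_le_iff_le_comap.2 fun j hj => by
    show algebraMap B B₀ (algebraMap A B j) = 0
    rw [← IsScalarTower.algebraMap_apply, IsScalarTower.algebraMap_apply A (A ⧸ J) B₀,
      Ideal.Quotient.algebraMap_eq, Ideal.Quotient.eq_zero_iff_mem.2 hj, map_zero]
  have hIB : (I.map (algebraMap A B)).map (algebraMap B B₀) = I.map (algebraMap A B₀) := by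
    rw [Ideal.map_map, ← IsScalarTower.algebraMap_eq]
  -- the lift of `C₀`
  obtain ⟨C', _, _, π', hC', hπ', hker'⟩ :=
    exists_etale_lift_sq (B := B) (T := B₀) (X := C ⧸ J.map (algebraMap A C)) hsurjB
  letI : Algebra A C' := ((algebraMap B C').comp (algebraMap A B)).toAlgebra
  haveI : IsScalarTower A B C' := IsScalarTower.of_algebraMap_eq fun _ => rfl
  let qC : C →ₐ[B] C ⧸ J.map (algebraMap A C) := Ideal.Quotient.mkₐ B _
  obtain ⟨g, hg⟩ : ∃ g : C' →ₐ[B] C, qC.comp g = π' :=
    exists_algHom_lift qC Ideal.Quotient.mk_surjective (by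
      rw [show RingHom.ker (qC : C →+* C ⧸ J.map (algebraMap A C)) = J.map (algebraMap A C) from
        Ideal.mk_ker]
      exact isNilpotent_map hnil) π'
  have hgq : ∀ x, Ideal.Quotient.mk _ (g x) = π' x := AlgHom.congr_fun hg
  have hgsurj : Function.Surjective g := by
    have := eq_top_of_le_sup_smul hnil (LinearMap.range (g.restrictScalars A).toLinearMap) (fun x _ => by
      obtain ⟨y, hy⟩ := hπ' (Ideal.Quotient.mk _ x)
      rw [Ideal.smul_top_eq_map]
      exact Submodule.mem_sup.2 ⟨g y, ⟨y, rfl⟩, x - g y,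
        Ideal.Quotient.eq.1 (by rw [hgq, hy]), add_sub_cancel _ _⟩)
    intro x
    have hx : x ∈ LinearMap.range (g.restrictScalars A).toLinearMap := this ▸ Submodule.mem_top
    exact hx
  obtain ⟨hsP, hiP⟩ := surjMod_injMod π' hπ' hker' hKdef hsurjB (I.map (algebraMap A B)) hIB hs₀ hi₀
  have hsI : SurjMod (I.map (algebraMap A B)) C' := surjMod_of_sq hK hsP
  have hloc : ∀ i (x : C'), g x = 0 → ∃ n : ℕ, c i ^ n • x = 0 := fun i x hx => by
    haveI := hetB i
    haveI := hC (c i) (hc ▸ Submodule.subset_span ⟨i, rfl⟩)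
    exact torsion_of_ker hnil g hgsurj (hKloc i)
      (fun y hy => hker' y ((hgq y).symm.trans (Ideal.Quotient.eq_zero_iff_mem.2 hy))) hx
  have hginj : Function.Injective g := (injective_iff_map_eq_zero g).2 fun x hx => by
    choose n hn using fun i => hloc i x hx
    let Φ : B →ₗ[B] (Fin r → B) := LinearMap.pi fun i => LinearMap.mulLeft B (algebraMap A B (c i) ^ n i)
    let X := LinearMap.ker Φ
    have hXmem : ∀ q : B, q ∈ X ↔ ∀ i, algebraMap A B (c i) ^ n i * q = 0 := fun q => by
      simp [X, Φ, LinearMap.mem_ker, funext_iff]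
    obtain ⟨w, hw⟩ : ∃ w : C' ⊗[B] X, X.subtype.lTensor C' w = x ⊗ₜ[B] (1 : B) := by
      refine ((Module.Flat.lTensor_exact C' (LinearMap.exact_subtype_ker_map Φ)) _).1 ?_
      rw [LinearMap.lTensor_tmul, show Φ 1 = ∑ i, (algebraMap A B (c i) ^ n i) • Pi.single i (1 : B) by
        funext j; simp [Φ, Finset.sum_apply, Pi.single_apply], TensorProduct.tmul_sum]
      refine Finset.sum_eq_zero fun i _ => ?_
      rw [← smul_tmul, show (algebraMap A B (c i) ^ n i) • x = c i ^ n i • x by rw [← map_pow, algebraMap_smul],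
        hn i, zero_tmul]
    obtain ⟨N, hN⟩ := exists_pow_smul_map c hc (B := B) n
    obtain ⟨q, hq⟩ := one_tmul_surjective (S := C') (surjMod_mono hN (surjMod_pow hsI N))
      (fun p hp (y : X) => by
        refine Subtype.ext ?_
        show p * (y : B) = 0
        obtain ⟨d, rfl⟩ := (Submodule.mem_span_range_iff_exists_fun B).1 hp
        rw [Finset.sum_mul]
        refine Finset.sum_eq_zero fun i _ => ?_
        rw [smul_eq_mul, mul_assoc, (hXmem _).1 y.2 i, mul_zero]) w
    have hxq : x = algebraMap B C' q := by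
      have h1 := congrArg (TensorProduct.rid B C') hw
      rw [← hq] at h1
      simpa [Algebra.algebraMap_eq_smul_one] using h1.symm
    have hq0 : algebraMap B C q.1 = 0 := by
      have h2 : g (algebraMap B C' q) = 0 := hxq ▸ hx
      rw [AlgHom.commutes] at h2
      exact h2
    have hq' : ∀ i, c i ^ n i • (q : B) = 0 := fun i => by
      rw [Algebra.smul_def, map_pow]; exact (hXmem _).1 q.2 i
    have hqb : algebraMap B B₀ q.1 = 0 := by
      obtain ⟨N', hN'⟩ := exists_pow_smul_map c hc (B := B₀) n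
      refine eq_zero_of_torsion (S := C ⧸ J.map (algebraMap A C)) N' hs₀ hi₀ (fun p hp => ?_) ?_
      · obtain ⟨d, rfl⟩ := (Submodule.mem_span_range_iff_exists_fun B₀).1 (hN' hp)
        rw [Finset.sum_mul]
        refine Finset.sum_eq_zero fun i _ => ?_
        have := congrArg (algebraMap B B₀) ((hXmem _).1 q.2 i)
        rw [map_mul, map_pow, ← IsScalarTower.algebraMap_apply, map_zero] at this
        rw [smul_eq_mul, mul_assoc, this, mul_zero]
      · rw [hcompat, hq0, map_zero]
    have hqz : (q : B) = 0 := hzero _ n hqb hq0 hq'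
    rw [hxq, hqz, map_zero]
  haveI : Algebra.Etale B C := Algebra.Etale.of_equiv (AlgEquiv.ofBijective g ⟨hginj, hgsurj⟩)
  -- the kernel
  have hqker : ∀ x, qC x = 0 → x ∈ K.map (algebraMap B C) := fun x hx => by
    obtain ⟨y, rfl⟩ := hgsurj x
    have h1 : π' y = 0 := (hgq y).symm.trans hx
    have h2 := Ideal.mem_map_of_mem g.toRingHom (hker' y h1)
    rwa [Ideal.map_map, AlgHom.toRingHom_eq_coe, AlgHom.comp_algebraMap] at h2
  obtain ⟨hsC, hiC⟩ := surjMod_injMod qC Ideal.Quotient.mk_surjective hqker hKdef hsurjB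
    (I.map (algebraMap A B)) hIB hs₀ hi₀
  have hker : K = J.map (algebraMap A B) := by
    refine le_antisymm (fun q hq => ?_) hJK
    have hn : ∀ i, ∃ n : ℕ, c i ^ n • q ∈ J.map (algebraMap A B) := fun i =>
      mem_map_of_loc (hKloc i q hq)
    choose n hn using hn
    obtain ⟨N, hN⟩ := exists_pow_smul_map c hc (B := B) n
    refine mem_of_torsion (S := C) (2 * N) hsC hiC (fun p hp => ?_) ?_
    · obtain ⟨d, rfl⟩ := (Submodule.mem_span_range_iff_exists_fun B).1 (hN (pow_two_sup_le hK N hp))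
      rw [Finset.sum_mul]
      refine sum_mem fun i _ => ?_
      have := hn i
      rw [Algebra.smul_def, map_pow] at this
      rw [smul_eq_mul, mul_assoc]
      exact Ideal.mul_mem_left _ _ this
    · rw [Ideal.map_map, ← IsScalarTower.algebraMap_eq]
      rw [← Ideal.Quotient.eq_zero_iff_mem, ← hcompat, RingHom.mem_ker.1 hq, map_zero]
  have hFT : Algebra.FiniteType A B := finiteType_of_ker hnil hft hsurjB hker
  refine ⟨B, inferInstance, inferInstance, inferInstance, inferInstance, inferInstance, inferInstance,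
    hFT, inferInstance, fun s hs => etale_loc_of_span c (by rw [Ideal.span, hc]; exact hs) hetB, hsurjB,
    hker, hcompat⟩

end Groth.Agent.H1Lift
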