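import Groth.Agent.H1Lift.Cech
import Groth.Agent.H1Lift.Lifts

/-!
# Systems of lifts and the lifting of sections
-/

set_option autoImplicit false
set_option linter.style.haveILetI false

universe u

open TensorProduct

namespace Groth.Agent.H1Lift

variable {A : Type u} [CommRing A] {I J : Ideal A} {B₀ : Type u} [CommRing B₀] [Algebra A B₀]
  {C : Type u} [CommRing C] [Algebra A C]

/-- Reduction of a localization of `C`. -/
noncomputable abbrev redC (J : Ideal A) (C : Type u) [CommRing C] [Algebra A C] (s : A) :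
    Loc C s →ₐ[A] Loc (C ⧸ J.map (algebraMap A C)) s :=
  locMap (Ideal.Quotient.mkₐ A (J.map (algebraMap A C))) (dvd_refl s)

/-- A system of étale lifts of the localizations of `B₀` away from elements of `I`. -/
structure Sys (I J : Ideal A) (f : B₀ →ₐ[A] C ⧸ J.map (algebraMap A C)) where
  L : I → Type u
  [instRing : ∀ s, CommRing (L s)]
  [instAlg : ∀ s, Algebra A (L s)]
  π : ∀ s : I, L s →ₐ[A] Loc B₀ s.1
  etale : ∀ s : I, Algebra.Etale A (L s)
  surj : ∀ s : I, Function.Surjective (π s)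
  ker : ∀ (s : I) (x : L s), π s x = 0 ↔ x ∈ J.map (algebraMap A (L s))
  ρ : ∀ {s t : I}, (s : A) ∣ (t : A) → (L s →ₐ[A] L t)
  hρ : ∀ {s t : I} (h : (s : A) ∣ (t : A)), (π t).comp (ρ h) = (locMap (AlgHom.id A B₀) h).comp (π s)
  φ : ∀ s : I, L s →ₐ[A] Loc C s.1
  hφ : ∀ s : I, (redC J C s.1).comp (φ s) = (locMap f (dvd_refl (s : A))).comp (π s)

attribute [instance] Sys.instRing Sys.instAlg Sys.etale

theorem exists_algHom_lift {X Y Z : Type u} [CommRing X] [Algebra A X] [CommRing Y] [Algebra A Y]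
    [CommRing Z] [Algebra A Z] [Algebra.FormallySmooth A X] (π : Y →ₐ[A] Z)
    (hπ : Function.Surjective π) (hk : IsNilpotent (RingHom.ker (π : Y →+* Z))) (g : X →ₐ[A] Z) :
    ∃ h : X →ₐ[A] Y, π.comp h = g :=
  ⟨Algebra.FormallySmooth.liftOfSurjective g π hπ hk, Algebra.FormallySmooth.comp_liftOfSurjective _ _ _ _⟩

theorem exists_sys (hJ : IsNilpotent J) [Algebra (A ⧸ J) B₀] [IsScalarTower A (A ⧸ J) B₀]
    (hB₀ : ∀ a ∈ I, Algebra.Etale (A ⧸ J) (Loc B₀ a))
    (f : B₀ →ₐ[A] C ⧸ J.map (algebraMap A C)) : Nonempty (Sys I J f) := by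
  have hL : ∀ s : I, ∃ (L : Type u) (_ : CommRing L) (_ : Algebra A L) (π : L →ₐ[A] Loc B₀ s.1),
      Algebra.Etale A L ∧ Function.Surjective π ∧ ∀ x, π x = 0 ↔ x ∈ J.map (algebraMap A L) := fun s => by
    haveI := hB₀ s.1 s.2
    exact exists_lift_loc s.1
  choose L r1 r2 π het hsurj hker using hL
  have hkn : ∀ s : I, IsNilpotent (RingHom.ker (π s : L s →+* Loc B₀ s.1)) := fun s => by
    rw [show RingHom.ker (π s : L s →+* Loc B₀ s.1) = J.map (algebraMap A (L s)) from Ideal.ext (hker s)]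
    exact isNilpotent_map hJ
  have hρ : ∀ (s t : I) (h : (s : A) ∣ (t : A)),
      ∃ ρ : L s →ₐ[A] L t, (π t).comp ρ = (locMap (AlgHom.id A B₀) h).comp (π s) := fun s t h => by
    haveI := het s
    exact exists_algHom_lift (π t) (hsurj t) (hkn t) _
  have hφ : ∀ s : I, ∃ φ : L s →ₐ[A] Loc C s.1,
      (redC J C s.1).comp φ = (locMap f (dvd_refl (s : A))).comp (π s) := fun s => by
    haveI := het s
    refine exists_algHom_lift (redC J C s.1) (loc_quotient J C s.1).1 ?_ _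
    rw [show RingHom.ker (redC J C s.1 : Loc C s.1 →+* Loc (C ⧸ J.map (algebraMap A C)) s.1) =
        J.map (algebraMap A (Loc C s.1)) from
      Ideal.ext fun x => RingHom.mem_ker.trans ((loc_quotient J C s.1).2 x)]
    exact isNilpotent_map hJ
  choose ρ hρ using hρ
  choose φ hφ using hφ
  exact ⟨{ L := L, π := π, etale := het, surj := hsurj, ker := hker, ρ := fun {s t} h => ρ s t h,
           hρ := fun {s t} h => hρ s t h, φ := φ, hφ := hφ }⟩

namespace Sys

variable {f : B₀ →ₐ[A] C ⧸ J.map (algebraMap A C)} (S : Sys I J f) (hJ : IsNilpotent J)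

theorem isUnit (hJ : IsNilpotent J) (s : I) {a : A} (h : a ∣ (s : A)) :
    IsUnit (algebraMap A (S.L s) a) :=
  isUnit_of_surjective (S.π s).toRingHom (S.surj s) (by
    rw [show RingHom.ker (S.π s).toRingHom = J.map (algebraMap A (S.L s)) from Ideal.ext (S.ker s)]
    exact isNilpotent_map hJ) (by
    show IsUnit (S.π s (algebraMap A (S.L s) a))
    rw [AlgHom.commutes]
    exact isUnit_loc_of_dvd h)

theorem smul_cancel (hJ : IsNilpotent J) (s : I) {a : A} (h : a ∣ (s : A)) {k : ℕ} {x y : S.L s}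
    (hxy : a ^ k • x = a ^ k • y) : x = y := by
  rw [Algebra.smul_def, Algebra.smul_def, map_pow] at hxy
  exact ((S.isUnit hJ s h).pow k).mul_left_cancel hxy

theorem π_ρ {s t : I} (h : (s : A) ∣ (t : A)) (x : S.L s) :
    S.π t (S.ρ h x) = locMap (AlgHom.id A B₀) h (S.π s x) := AlgHom.congr_fun (S.hρ h) x

theorem red_φ (s : I) (x : S.L s) :
    redC J C s.1 (S.φ s x) = locMap f (dvd_refl (s : A)) (S.π s x) := AlgHom.congr_fun (S.hφ s) x

theorem hom_ext (hJ : IsNilpotent J) {s t : I} {g g' : S.L s →ₐ[A] S.L t}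
    (h : ∀ x, S.π t (g x) = S.π t (g' x)) : g = g' :=
  Algebra.FormallyUnramified.ext' (S.π t).toRingHom (by
    rw [show RingHom.ker (S.π t).toRingHom = J.map (algebraMap A (S.L t)) from Ideal.ext (S.ker t)]
    exact isNilpotent_map hJ) g g' h

theorem ρ_ρ (hJ : IsNilpotent J) {s t w : I} (h : (s : A) ∣ (t : A)) (h' : (t : A) ∣ (w : A))
    (x : S.L s) : S.ρ h' (S.ρ h x) = S.ρ (h.trans h') x := by
  have := S.hom_ext hJ (g := (S.ρ h').comp (S.ρ h)) (g' := S.ρ (h.trans h')) fun x => by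
    rw [AlgHom.comp_apply, π_ρ, π_ρ, π_ρ]
    exact (AlgHom.congr_fun (locMap_comp (AlgHom.id A B₀) (AlgHom.id A B₀) h h') (S.π s x))
  exact AlgHom.congr_fun this x

theorem φ_ρ (hJ : IsNilpotent J) {s t : I} (h : (s : A) ∣ (t : A)) (x : S.L s) :
    S.φ t (S.ρ h x) = locMap (AlgHom.id A C) h (S.φ s x) := by
  have key : ∀ x, redC J C t.1 (S.φ t (S.ρ h x)) = redC J C t.1 (locMap (AlgHom.id A C) h (S.φ s x)) := by
    intro x
    rw [red_φ, π_ρ]
    have h1 := AlgHom.congr_fun (locMap_comp (AlgHom.id A B₀) f h (dvd_refl (t : A))) (S.π s x)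
    have h2 := AlgHom.congr_fun (locMap_comp (AlgHom.id A C)
      (Ideal.Quotient.mkₐ A (J.map (algebraMap A C))) h (dvd_refl (t : A))) (S.φ s x)
    have h3 := AlgHom.congr_fun (locMap_comp f (AlgHom.id A _) (dvd_refl (s : A)) h) (S.π s x)
    have h4 := AlgHom.congr_fun (locMap_comp (Ideal.Quotient.mkₐ A (J.map (algebraMap A C)))
      (AlgHom.id A _) (dvd_refl (s : A)) h) (S.φ s x)
    rw [AlgHom.comp_apply] at h1 h2 h3 h4
    rw [show locMap f (dvd_refl (t : A)) (locMap (AlgHom.id A B₀) h (S.π s x)) = _ from h1,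
      show redC J C t.1 (locMap (AlgHom.id A C) h (S.φ s x)) = _ from h2]
    simp only [AlgHom.comp_id, AlgHom.id_comp] at h3 h4 ⊢
    rw [← h3, ← h4]
    exact congrArg _ (S.red_φ s x).symm
  have := Algebra.FormallyUnramified.ext' (redC J C t.1).toRingHom (by
    rw [show RingHom.ker (redC J C t.1).toRingHom = J.map (algebraMap A (Loc C t.1)) from
      Ideal.ext (loc_quotient J C t.1).2]
    exact isNilpotent_map hJ) ((S.φ t).comp (S.ρ h)) ((locMap (AlgHom.id A C) h).comp (S.φ s)) key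
  exact AlgHom.congr_fun this x

theorem facts (hJ : IsNilpotent J) {s t : I} (h : (s : A) ∣ (t : A)) {b : A} (ht : (t : A) = s * b) :
    (∀ x, S.ρ h x = 0 → ∃ k : ℕ, b ^ k • x = 0) ∧
      ∀ y, ∃ (k : ℕ) (x : S.L s), S.ρ h x = b ^ k • y := by
  rcases t with ⟨t, ht'⟩
  subst ht
  exact transition_facts hJ (S.π s) (S.surj s) (S.ker s) (S.π ⟨_, ht'⟩) (S.surj _) (S.ker _)
    (S.ρ h) (S.hρ h)

end Sys

theorem smul_loc_eq_zero [Algebra (A ⧸ J) B₀] [IsScalarTower A (A ⧸ J) B₀] {j : A} (hj : j ∈ J) (s : A)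
    (x : Loc B₀ s) : j • x = 0 := by
  have h0 : algebraMap A B₀ j = 0 := by
    rw [IsScalarTower.algebraMap_apply A (A ⧸ J) B₀, Ideal.Quotient.algebraMap_eq,
      Ideal.Quotient.eq_zero_iff_mem.2 hj, map_zero]
  have h1 : algebraMap A (Loc B₀ s) j = 0 := (algebraMap_loc (R := B₀) s j).symm.trans (by rw [h0, map_zero])
  rw [Algebra.smul_def, h1, zero_mul]

/-- Every element of `C₀ ⊗ J` gives a global element of `J C`. -/
theorem exists_global (w : (C ⧸ J.map (algebraMap A C)) ⊗[A] J) :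
    ∃ c ∈ J.map (algebraMap A C), ∀ (s : A) (μ : (C ⧸ J.map (algebraMap A C)) ⊗[A] J →ₗ[A] Loc C s),
      (∀ (b : C ⧸ J.map (algebraMap A C)) (j : J) (l : Loc C s),
        redC J C s l = algebraMap _ _ b → μ (b ⊗ₜ j) = (j : A) • l) → μ w = algebraMap C (Loc C s) c := by
  induction w using TensorProduct.induction_on with
  | zero => exact ⟨0, zero_mem _, fun s μ _ => by simp⟩
  | tmul b j =>
    obtain ⟨c, rfl⟩ := Ideal.Quotient.mk_surjective b
    refine ⟨(j : A) • c, ?_, fun s μ hμ => ?_⟩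
    · rw [Algebra.smul_def]
      exact Ideal.mul_mem_right _ _ (Ideal.mem_map_of_mem _ j.2)
    · exact (hμ _ j (algebraMap C _ c) (locMap_algebraMap _ _ c)).trans (loc_algebraMap_smul s _ c).symm
  | add x y hx hy =>
    obtain ⟨c, hc, hc'⟩ := hx
    obtain ⟨d, hd, hd'⟩ := hy
    exact ⟨c + d, add_mem hc hd, fun s μ hμ => by rw [map_add, hc' s μ hμ, hd' s μ hμ, map_add]⟩

theorem smul_pow_of_le {M : Type u} [AddCommGroup M] [Module A M] {N : Type u} [AddCommGroup N]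
    [Module A N] (μ : M →ₗ[A] N) (a : A) {k m : ℕ} (h : k ≤ m) {x : M} {y : N}
    (hxy : μ x = a ^ k • y) : μ (a ^ (m - k) • x) = a ^ m • y := by
  rw [map_smul, hxy, smul_smul, ← pow_add, Nat.sub_add_cancel h]

theorem pow_smul_eq_zero_of_le {M : Type u} [AddCommGroup M] [Module A M] (a : A) {k m : ℕ}
    (h : k ≤ m) {x : M} (hx : a ^ k • x = 0) : a ^ m • x = 0 := by
  rw [← Nat.sub_add_cancel h, pow_add, mul_smul, hx, smul_zero]

theorem smul_quad {M : Type u} [AddCommGroup M] [Module A M] (a b c : A) (k : ℕ) (x : M) :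
    (a * b * c) ^ k • x = (a ^ k * (b * c) ^ k) • x := by rw [← mul_pow, mul_assoc]

set_option maxHeartbeats 1000000 in
/-- Lifting of an element of `B₀` to a compatible system. -/
theorem exists_lifting (hJ : J ^ 2 = ⊥) [Algebra (A ⧸ J) B₀] [IsScalarTower A (A ⧸ J) B₀]
    (hC : ∀ a ∈ I, Algebra.Etale A (Loc C a)) {f : B₀ →ₐ[A] C ⧸ J.map (algebraMap A C)}
    (S : Sys I J f) {r : ℕ} (a : Fin r → I) (hspan : Ideal.span (Set.range fun i => (a i : A)) = I)
    [Algebra B₀ (C ⧸ J.map (algebraMap A C))] [IsScalarTower A B₀ (C ⧸ J.map (algebraMap A C))]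
    [Module.Flat B₀ (C ⧸ J.map (algebraMap A C))]
    (hf : ∀ b, f b = algebraMap B₀ (C ⧸ J.map (algebraMap A C)) b)
    (hs : SurjMod (I.map (algebraMap A B₀)) (C ⧸ J.map (algebraMap A C)))
    (hi : InjMod (I.map (algebraMap A B₀)) (C ⧸ J.map (algebraMap A C)))
    (b : B₀) :
    ∃ (c : C) (x : ∀ i, S.L (a i)), Ideal.Quotient.mk _ c = f b ∧
      (∀ i, S.π (a i) (x i) = algebraMap B₀ _ b) ∧
      (∀ i, S.φ (a i) (x i) = algebraMap C _ c) ∧
      ∀ i j (w : I) (_ : (w : A) = a i * a j) (h₁ : (a i : A) ∣ w) (h₂ : (a j : A) ∣ w),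
        S.ρ h₁ (x i) = S.ρ h₂ (x j) := by
  classical
  have hnil : IsNilpotent J := ⟨2, by rw [hJ]; rfl⟩
  set C₀ := C ⧸ J.map (algebraMap A C) with hC₀
  let p₂ : Fin r → Fin r → I := fun i j => ⟨a i * a j, I.mul_mem_right _ (a i).2⟩
  let p₃ : Fin r → Fin r → Fin r → I := fun i j k => ⟨a i * a j * a k, I.mul_mem_left _ (a k).2⟩
  have d₁ : ∀ i j, (a i : A) ∣ p₂ i j := fun i j => dvd_mul_right _ _
  have d₂ : ∀ i j, (a j : A) ∣ p₂ i j := fun i j => dvd_mul_left _ _
  have d₁₂ : ∀ i j k, (p₂ i j : A) ∣ p₃ i j k := fun i j k => dvd_mul_right _ _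
  have d₁₃ : ∀ i j k, (p₂ i k : A) ∣ p₃ i j k := fun i j k => ⟨(a j : A), by simp [p₂, p₃]; ring⟩
  have d₂₃ : ∀ i j k, (p₂ j k : A) ∣ p₃ i j k := fun i j k => ⟨(a i : A), by simp [p₂, p₃]; ring⟩
  obtain ⟨c₀, hc₀⟩ := Ideal.Quotient.mk_surjective (f b)
  choose x₀ hx₀ using fun i => S.surj (a i) (algebraMap B₀ _ b)
  let y : ∀ i, Loc C (a i : A) := fun i => S.φ (a i) (x₀ i) - algebraMap C _ c₀
  have hy : ∀ i, y i ∈ J.map (algebraMap A (Loc C (a i : A))) := fun i => by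
    rw [← (loc_quotient J C (a i : A)).2, map_sub, sub_eq_zero]
    show redC J C _ (S.φ (a i) (x₀ i)) = redC J C _ (algebraMap C _ c₀)
    rw [S.red_φ, hx₀, locMap_algebraMap, redC, locMap_algebraMap, Ideal.Quotient.mkₐ_eq_mk, hc₀]
  let z : ∀ i j, S.L (p₂ i j) := fun i j => S.ρ (d₂ i j) (x₀ j) - S.ρ (d₁ i j) (x₀ i)
  have hz : ∀ i j, z i j ∈ J.map (algebraMap A (S.L (p₂ i j))) := fun i j => by
    rw [← S.ker, map_sub, S.π_ρ, S.π_ρ, hx₀, hx₀, locMap_algebraMap, locMap_algebraMap, sub_self]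
  haveI : ∀ s : I, Algebra.Etale A (Loc C (s : A)) := fun s => hC s.1 s.2
  choose μ hμ hμ0 hμs using fun s : I => exists_mu hJ (s : A) (S.π s) (S.surj s) (S.ker s)
  choose ν hν hν0 hνs using fun s : I =>
    exists_mu hJ (s : A) (redC J C (s : A)) (loc_quotient J C (s : A)).1 (loc_quotient J C (s : A)).2
  choose ky n hn using fun i => hνs (a i) (y i) (hy i)
  choose kz v hv using fun i j => hμs (p₂ i j) (z i j) (hz i j)
  let m := Finset.univ.sup ky + Finset.univ.sup fun q : Fin r × Fin r => kz q.1 q.2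
  have hky : ∀ i, ky i ≤ m := fun i => (Finset.le_sup (Finset.mem_univ i)).trans (Nat.le_add_right _ _)
  have hkz : ∀ i j, kz i j ≤ m := fun i j =>
    (Finset.le_sup (f := fun q : Fin r × Fin r => kz q.1 q.2) (Finset.mem_univ (i, j))).trans
      (Nat.le_add_left _ _)
  let n₁ : Fin r → C₀ ⊗[A] J := fun i => (a i : A) ^ (m - ky i) • n i
  let v₁ : Fin r → Fin r → B₀ ⊗[A] J := fun i j => ((a i : A) * a j) ^ (m - kz i j) • v i j
  have hn₁ : ∀ i, ν (a i) (n₁ i) = (a i : A) ^ m • y i := fun i =>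
    smul_pow_of_le (ν (a i)) _ (hky i) (hn i)
  have hv₁ : ∀ i j, μ (p₂ i j) (v₁ i j) = ((a i : A) * a j) ^ m • z i j := fun i j =>
    smul_pow_of_le (μ (p₂ i j)) _ (hkz i j) (hv i j)
  let fT : B₀ ⊗[A] J →ₗ[A] C₀ ⊗[A] J := f.toLinearMap.rTensor J
  have hρμ : ∀ {s t : I} (h : (s : A) ∣ (t : A)) (w : B₀ ⊗[A] J), S.ρ h (μ s w) = μ t w := by
    intro s t h w
    rw [mu_natural (S.π s) (S.surj s) (S.π t) (μ s) (μ t) (hμ s) (hμ t) (AlgHom.id A B₀) h (S.ρ h)
      (S.hρ h) w, AlgHom.toLinearMap_id, LinearMap.rTensor_id, LinearMap.id_apply]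
  have hφμ : ∀ (s : I) (w : B₀ ⊗[A] J), S.φ s (μ s w) = ν s (fT w) := fun s w =>
    mu_natural (S.π s) (S.surj s) (redC J C (s : A)) (μ s) (ν s) (hμ s) (hν s) f (dvd_refl _) (S.φ s)
      (S.hφ s) w
  have hlν : ∀ {s t : I} (h : (s : A) ∣ (t : A)) (w : C₀ ⊗[A] J),
      locMap (AlgHom.id A C) h (ν s w) = ν t w := by
    intro s t h w
    rw [mu_natural (redC J C (s : A)) (loc_quotient J C (s : A)).1 (redC J C (t : A)) (ν s) (ν t)
      (hν s) (hν t) (AlgHom.id A C₀) h (locMap (AlgHom.id A C) h) ?_ w, AlgHom.toLinearMap_id,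
      LinearMap.rTensor_id, LinearMap.id_apply]
    rw [redC, redC, locMap_comp, locMap_comp, AlgHom.comp_id, AlgHom.id_comp]
  -- the Koszul relations after enlarging `m`
  let X : Fin r → Fin r → Fin r → B₀ ⊗[A] J := fun i j k =>
    (a i : A) ^ m • v₁ j k - (a j : A) ^ m • v₁ i k + (a k : A) ^ m • v₁ i j
  have hX : ∀ i j k, μ (p₃ i j k) (X i j k) = 0 := fun i j k => by
    simp only [X, map_add, map_sub, map_smul]
    rw [← hρμ (d₂₃ i j k), ← hρμ (d₁₃ i j k) (v₁ i k), ← hρμ (d₁₂ i j k) (v₁ i j), hv₁, hv₁, hv₁,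
      map_smul, map_smul, map_smul, smul_smul, smul_smul, smul_smul]
    have e1 : (a i : A) ^ m * ((a j : A) * a k) ^ m = ((a i : A) * a j * a k) ^ m := by ring
    have e2 : (a j : A) ^ m * ((a i : A) * a k) ^ m = ((a i : A) * a j * a k) ^ m := by ring
    have e3 : (a k : A) ^ m * ((a i : A) * a j) ^ m = ((a i : A) * a j * a k) ^ m := by ring
    rw [e1, e2, e3, ← smul_sub, ← smul_add]
    refine smul_eq_zero_of_right _ ?_
    simp only [z, map_sub]
    rw [S.ρ_ρ hnil, S.ρ_ρ hnil, S.ρ_ρ hnil, S.ρ_ρ hnil, S.ρ_ρ hnil, S.ρ_ρ hnil]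
    abel
  let W : Fin r → Fin r → C₀ ⊗[A] J := fun i j =>
    (a i : A) ^ m • n₁ j - (a j : A) ^ m • n₁ i - fT (v₁ i j)
  have hW : ∀ i j, ν (p₂ i j) (W i j) = 0 := fun i j => by
    simp only [W, map_sub, map_smul]
    rw [← hφμ, hv₁, ← hlν (d₂ i j) (n₁ j), ← hlν (d₁ i j) (n₁ i), hn₁, hn₁, map_smul, map_smul,
      map_smul, smul_smul, smul_smul,
      show (a j : A) ^ m * (a i : A) ^ m = ((a i : A) * a j) ^ m by ring, ← mul_pow, ← smul_sub,
      ← smul_sub]
    refine smul_eq_zero_of_right _ ?_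
    simp only [z, y, map_sub, S.φ_ρ hnil]
    rw [locMap_algebraMap, locMap_algebraMap]
    abel
  choose kX hkX using fun i j k => hμ0 (p₃ i j k) _ (hX i j k)
  choose kW hkW using fun i j => hν0 (p₂ i j) _ (hW i j)
  let k' := (Finset.univ.sup fun q : Fin r × Fin r × Fin r => kX q.1 q.2.1 q.2.2) +
    Finset.univ.sup fun q : Fin r × Fin r => kW q.1 q.2
  have hkX' : ∀ i j k, kX i j k ≤ k' := fun i j k =>
    (Finset.le_sup (f := fun q : Fin r × Fin r × Fin r => kX q.1 q.2.1 q.2.2)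
      (Finset.mem_univ (i, j, k))).trans (Nat.le_add_right _ _)
  have hkW' : ∀ i j, kW i j ≤ k' := fun i j =>
    (Finset.le_sup (f := fun q : Fin r × Fin r => kW q.1 q.2) (Finset.mem_univ (i, j))).trans
      (Nat.le_add_left _ _)
  let M := m + k'
  let n₂ : Fin r → C₀ ⊗[A] J := fun i => (a i : A) ^ k' • n₁ i
  let v₂ : Fin r → Fin r → B₀ ⊗[A] J := fun i j => ((a i : A) * a j) ^ k' • v₁ i j
  have hX₂ : ∀ i j k, (a i : A) ^ M • v₂ j k - (a j : A) ^ M • v₂ i k + (a k : A) ^ M • v₂ i j = 0 :=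
    fun i j k => by
    rw [← pow_smul_eq_zero_of_le ((a i : A) * a j * a k) (hkX' i j k) (hkX i j k)]
    simp only [X, v₂, M, smul_add, smul_sub, smul_smul]
    congr 2
    · congr 1; ring
    · congr 1; ring
    · ring
  have hW₂ : ∀ i j, (a i : A) ^ M • n₂ j - (a j : A) ^ M • n₂ i = fT (v₂ i j) := fun i j => by
    rw [← sub_eq_zero, ← pow_smul_eq_zero_of_le ((a i : A) * a j) (hkW' i j) (hkW i j)]
    simp only [W, n₂, v₂, M, map_smul, smul_sub, smul_smul]
    congr 2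
    · congr 1; ring
    · congr 1; ring
  -- the Koszul lemma
  let al : Fin r → B₀ := fun i => algebraMap A B₀ ((a i : A) ^ M)
  let e := (TensorProduct.AlgebraTensorModule.cancelBaseChange A B₀ C₀ C₀ J).restrictScalars A
  have he : ∀ w : B₀ ⊗[A] J, e ((1 : C₀) ⊗ₜ[B₀] w) = fT w := fun w => by
    induction w using TensorProduct.induction_on with
    | zero => simp
    | tmul b j => simp [e, fT, hf, Algebra.smul_def]; rfl
    | add x y hx hy => simp [tmul_add, map_add, hx, hy]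
  have hQ : ∃ N, (I.map (algebraMap A B₀)) ^ N ≤ Ideal.span (Set.range al) := by
    refine Ideal.exists_pow_le_of_le_radical_of_fg ?_
      ((show I.FG from hspan ▸ Submodule.fg_span (Set.finite_range _)).map _)
    conv_lhs => rw [← hspan, Ideal.map_span]
    refine Ideal.span_le.2 ?_
    rintro _ ⟨_, ⟨i, rfl⟩, rfl⟩
    exact ⟨M, by rw [← map_pow]; exact Ideal.subset_span ⟨i, rfl⟩⟩
  obtain ⟨N, hN⟩ := hQ
  obtain ⟨u, c', hu, hc'⟩ := exists_koszul_split al (surjMod_mono hN (surjMod_pow hs N))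
    (injMod_of_pow_le N hN hs hi) (fun i => e.symm (n₂ i)) v₂
    (by funext i j k; rw [d2_apply]; simp only [al, algebraMap_smul]; exact hX₂ i j k)
    (fun i j => by
      simp only [al, algebraMap_smul]
      rw [← map_smul e.symm, ← map_smul e.symm, ← map_sub, hW₂, ← he, e.symm_apply_apply])
  simp only [al, algebraMap_smul] at hu hc'
  obtain ⟨cC, hcC, hcC'⟩ := exists_global (e c')
  have hUex : ∀ i, ∃ U : S.L (a i), (a i : A) ^ M • U = μ (a i) (u i) := fun i => by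
    obtain ⟨w, hw⟩ := ((S.isUnit hnil (a i) (dvd_refl _)).pow M)
    exact ⟨↑w⁻¹ * μ (a i) (u i), by rw [Algebra.smul_def, map_pow, ← hw, ← mul_assoc, Units.mul_inv, one_mul]⟩
  choose U hU using hUex
  have hπμ : ∀ (s : I) (w : B₀ ⊗[A] J), S.π s (μ s w) = 0 := fun s w => by
    induction w using TensorProduct.induction_on with
    | zero => simp
    | tmul b j =>
      obtain ⟨l, hl⟩ := S.surj s (algebraMap B₀ _ b)
      rw [hμ s b j l hl, map_smul, smul_loc_eq_zero j.2]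
    | add x y hx hy => simp [map_add, hx, hy]
  refine ⟨c₀ + cC, fun i => x₀ i - U i, ?_, fun i => ?_, fun i => ?_, ?_⟩
  · rw [map_add, Ideal.Quotient.eq_zero_iff_mem.2 hcC, add_zero, hc₀]
  · have h0 : S.π (a i) (U i) = 0 := loc_smul_cancel (dvd_refl _) (k := M) (by
      rw [← map_smul, hU, hπμ, smul_zero])
    rw [map_sub, h0, sub_zero, hx₀]
  · refine loc_smul_cancel (dvd_refl _) (k := M) ?_
    have hn₂ : ν (a i) (n₂ i) = (a i : A) ^ M • y i := by
      rw [map_smul, hn₁, smul_smul, ← pow_add, add_comm k' m]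
    have hc'' : n₂ i = fT (u i) + (a i : A) ^ M • e c' := by
      rw [← e.apply_symm_apply (n₂ i), hc' i, map_add, he]
      rw [map_smul]
    rw [hc'', map_add, map_smul, hcC' _ _ (hν (a i)), ← hφμ, ← hU, map_smul, ← smul_add] at hn₂
    have h1 := loc_smul_cancel (dvd_refl _) hn₂
    simp only [y] at h1
    refine congrArg _ ?_
    rw [map_sub, map_add]
    linear_combination -h1
  · intro i j w hw h₁ h₂
    obtain rfl : w = p₂ i j := Subtype.ext hw
    have hv₂ : μ (p₂ i j) (v₂ i j) = ((a i : A) * a j) ^ M • z i j := by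
      rw [map_smul, hv₁, smul_smul, ← pow_add, add_comm k' m]
    rw [hu i j, map_sub, map_smul, map_smul, ← hρμ (d₂ i j) (u j), ← hρμ (d₁ i j) (u i), ← hU, ← hU,
      map_smul, map_smul, smul_smul, smul_smul, mul_comm ((a j : A) ^ M), ← mul_pow, ← smul_sub] at hv₂
    have := S.smul_cancel hnil (p₂ i j) (a := (a i : A) * a j) (dvd_refl _) hv₂
    simp only [z] at this
    rw [map_sub, map_sub]
    linear_combination (norm := abel) this

end Groth.Agent.H1Lift
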